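import Cfsg.Agent.Co3U.Pair

/-!
# A subgroup with the local data of the third Conway group is the whole group

A subgroup containing `C(t)`, fusing `t` to `s`, with an element of order five centralizing the pair, contains the
centralizers of all its involutions, hence is everything.
-/

set_option autoImplicit false
set_option linter.style.haveILetI false

namespace CfsgLib.Co3U

open Subgroup

variable {G : Type*} [Group G]

/-- Two involutions: either conjugate, or an involution commutes with both. -/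
theorem exists_between_involutions [Finite G] {u v : G} (hu : u * u = 1) (hv : v * v = 1) :
    (∃ g ∈ closure ({u, v} : Set G), g * u * g⁻¹ = v) ∨
      ∃ k : ℕ, k ≠ 0 ∧ (u * v) ^ (k + k) = 1 ∧ (u * v) ^ k ≠ 1 ∧ orderOf (u * v) = k + k := by
  rcases Nat.even_or_odd (orderOf (u * v)) with ⟨k, hk⟩ | ⟨k, hk⟩
  · have hk0 : k ≠ 0 := by
      rintro rfl
      have := orderOf_pos (u * v)
      omega
    exact Or.inr ⟨k, hk0, hk ▸ pow_orderOf_eq_one _, pow_ne_one_of_lt_orderOf hk0 (by omega), hk⟩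
  · refine Or.inl ?_
    have h1 : u * (u * v) * u⁻¹ = (u * v)⁻¹ := by
      rw [inv_eq_of_mul_eq_one_right hu, mul_inv_rev, inv_eq_of_mul_eq_one_right hu,
        inv_eq_of_mul_eq_one_right hv, ← mul_assoc, hu, one_mul]
    have hn : (u * v) ^ (k + 1) * (u * v) ^ (k + 1) = u * v := by
      rw [← pow_add, show k + 1 + (k + 1) = orderOf (u * v) + 1 by omega, pow_succ, pow_orderOf_eq_one,
        one_mul]
    have hu' : u ∈ closure ({u, v} : Set G) := Subgroup.subset_closure (Set.mem_insert _ _)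
    have hv' : v ∈ closure ({u, v} : Set G) := Subgroup.subset_closure (Set.mem_insert_of_mem _ rfl)
    refine ⟨((u * v) ^ (k + 1))⁻¹, inv_mem (pow_mem (mul_mem hu' hv') _), ?_⟩
    set r := (u * v) ^ (k + 1) with hr
    have h2 : u * r * u⁻¹ = r⁻¹ := by rw [hr, ← conj_pow, h1, inv_pow]
    rw [inv_inv]
    calc r⁻¹ * u * r = r⁻¹ * (u * r * u⁻¹) * u := by group
      _ = (r * r)⁻¹ * u := by rw [h2]; group
      _ = v := by
        rw [hn, mul_inv_rev, inv_eq_of_mul_eq_one_right hv, inv_eq_of_mul_eq_one_right hu, mul_assoc, hu,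
          mul_one]

/-- The middle of a dihedral group. -/
theorem middle {u v : G} (hu : u * u = 1) (hv : v * v = 1) (k : ℕ) :
    u * (u * v) ^ k * u⁻¹ = ((u * v) ^ k)⁻¹ ∧ v * (u * v) ^ k * v⁻¹ = ((u * v) ^ k)⁻¹ := by
  refine ⟨?_, ?_⟩
  · rw [← conj_pow, ← inv_pow, mul_inv_rev, inv_eq_of_mul_eq_one_right hu, inv_eq_of_mul_eq_one_right hv,
      ← mul_assoc, hu, one_mul]
  · rw [← conj_pow, ← inv_pow, mul_inv_rev, inv_eq_of_mul_eq_one_right hu, inv_eq_of_mul_eq_one_right hv,
      mul_assoc, mul_assoc u, hv, mul_one]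

variable {t s c y w : G}

namespace Loc

variable (L : Loc t s c y w)
include L

/-- **The subgroup is the whole group.** -/
theorem eq_top_of_loc [Finite G] (G0 : Subgroup G) (hle : centralizer ({t} : Set G) ≤ G0)
    (hs : ∃ g ∈ G0, g * t * g⁻¹ = s)
    (h5 : ∃ x ∈ G0, orderOf x = 5 ∧ Commute x c ∧ Commute x y) : G0 = ⊤ := by
  classical
  obtain ⟨gs, hgs, hgse⟩ := hs
  have hts : IsConj t s := isConj_iff.2 ⟨gs, hgse⟩
  have hcc := L.cc
  have hyy := L.yy
  have htG : t ∈ G0 := hle (mem_cen.2 (Commute.refl t))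
  have hcG : c ∈ G0 := hle (mem_cen.2 L.comm_c.symm)
  -- the two classes of involutions of `G0`
  have hcls : ∀ x ∈ G0, x * x = 1 → x ≠ 1 →
      (∃ a ∈ G0, a * t * a⁻¹ = x) ∨ ∃ a ∈ G0, a * c * a⁻¹ = x := by
    intro x hx hxx hx1
    obtain ⟨g, hg, hgx⟩ := L.exists_conj_into hle hx hxx
    rcases L.classes _ hgx (by
      rw [orderOf_conj, orderOf_eq_prime_iff]; exact ⟨by rw [sq, hxx], hx1⟩) with h | ⟨a, ha, h⟩ | ⟨a, ha, h⟩
    · exact Or.inl ⟨g⁻¹, inv_mem hg, by
        rw [inv_inv]; calc g⁻¹ * t * g = g⁻¹ * (g * x * g⁻¹) * g := by rw [h]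
          _ = x := by group⟩
    · exact Or.inl ⟨g⁻¹ * a * gs, mul_mem (mul_mem (inv_mem hg) (hle ha)) hgs, by
        calc g⁻¹ * a * gs * t * (g⁻¹ * a * gs)⁻¹ = g⁻¹ * (a * (gs * t * gs⁻¹) * a⁻¹) * g := by group
          _ = g⁻¹ * (g * x * g⁻¹) * g := by rw [hgse, h]
          _ = x := by group⟩
    · exact Or.inr ⟨g⁻¹ * a, mul_mem (inv_mem hg) (hle ha), by
        calc g⁻¹ * a * c * (g⁻¹ * a)⁻¹ = g⁻¹ * (a * c * a⁻¹) * g := by group
          _ = g⁻¹ * (g * x * g⁻¹) * g := by rw [h]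
          _ = x := by group⟩
  have hinv : ∀ d : G, IsConj t d → d * d = 1 ∧ d ≠ 1 := fun d hd => by
    obtain ⟨g, rfl⟩ := isConj_iff.1 hd
    exact ⟨by rw [show g * t * g⁻¹ * (g * t * g⁻¹) = g * (t * t) * g⁻¹ by group, L.tt]; group,
      fun h => L.t_ne (conj_eq_one_iff.1 h)⟩
  have hcnot : ∀ a : G, ¬ IsConj t (a * c * a⁻¹) := fun a h =>
    L.not_conj_of_c ⟨1, one_mem _, by group⟩ (h.trans (IsConj.symm (isConj_iff.2 ⟨a, rfl⟩)))
  have hD : ∀ d ∈ G0, IsConj t d → ∃ a ∈ G0, a * t * a⁻¹ = d := fun d hd hdt => by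
    rcases hcls d hd (hinv d hdt).1 (hinv d hdt).2 with h | ⟨a, -, rfl⟩
    exacts [h, absurd hdt (hcnot a)]
  -- (A)
  have hA : ∀ u ∈ G0, IsConj t u → ∀ g : G, g * u * g⁻¹ ∈ G0 → g ∈ G0 := by
    intro u hu hut g hg
    obtain ⟨a, ha, rfl⟩ := hD u hu hut
    obtain ⟨b, hb, hbe⟩ := hD _ hg (hut.trans (isConj_iff.2 ⟨g, rfl⟩))
    have h : b⁻¹ * g * a ∈ centralizer ({t} : Set G) := mem_cen.2 (mul_inv_eq_iff_eq_mul.1 (by
      calc b⁻¹ * g * a * t * (b⁻¹ * g * a)⁻¹ = b⁻¹ * (g * (a * t * a⁻¹) * g⁻¹) * b := by group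
        _ = t := by rw [← hbe]; group))
    have := mul_mem (mul_mem hb (hle h)) (inv_mem ha)
    rwa [show b * (b⁻¹ * g * a) * a⁻¹ = g by group] at this
  have hCD : ∀ d ∈ G0, IsConj t d → ∀ g, Commute g d → g ∈ G0 := fun d hd hdt g hg =>
    hA d hd hdt g (by rwa [hg.eq, mul_inv_cancel_right])
  have hY : pairCen c y ≤ G0 := L.pairCen_le hle hts hD h5
  -- `C(c)` lies in `G0`
  have hC : ∀ g : G, Commute g c → g ∈ G0 := by
    intro g hgc
    by_contra hg
    set u := g * t * g⁻¹ with hu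
    have huG : u ∉ G0 := fun h => hg (hA t htG (IsConj.refl t) g h)
    have hut : IsConj t u := isConj_iff.2 ⟨g, rfl⟩
    have huu : u * u = 1 := (hinv u hut).1
    have huc : Commute u c := by
      have := commute_conj g L.comm_c
      rwa [hgc.eq, mul_inv_cancel_right] at this
    have hyc : Commute y c := L.comm_cy.symm
    have hnc : ∀ a : G, a * u * a⁻¹ ≠ y ∧ a * u * a⁻¹ ≠ c * y := fun a =>
      ⟨fun h => L.not_conj_of_c L.y_c (h ▸ hut.trans (isConj_iff.2 ⟨a, rfl⟩)),
        fun h => L.not_conj_of_c L.cy_c (h ▸ hut.trans (isConj_iff.2 ⟨a, rfl⟩))⟩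
    -- the middle of the dihedral group modulo `c`
    obtain ⟨k, hk0, hk1, hk2, hk3⟩ := (exists_between_involutions huu hyy).resolve_left
      (by rintro ⟨a, -, ha⟩; exact (hnc a).1 ha)
    obtain ⟨z, hzu, hzy, hz2, hz1⟩ : ∃ z : G, u * z * u⁻¹ = z⁻¹ ∧ y * z * y⁻¹ = z⁻¹ ∧
        (z * z = 1 ∨ z * z = c) ∧ Commute z c ∧ z ≠ 1 ∧ z ≠ c := by
      by_cases hzc : (u * y) ^ k = c
      · -- halve once more
        rcases Nat.even_or_odd k with ⟨j, hj⟩ | ⟨j, hj⟩
        · refine ⟨(u * y) ^ j, (middle huu hyy j).1, (middle huu hyy j).2, Or.inr ?_,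
            ((huc.mul_left hyc).pow_left j), pow_ne_one_of_lt_orderOf (by omega) (by omega), fun h => ?_⟩
          · rw [← pow_add, ← hj, hzc]
          · have h1 : (u * y) ^ (j + j) = c * c := by rw [pow_add, h]
            rw [← hj, hzc, hcc] at h1
            exact hk2 (hzc.trans h1)
        · exfalso
          -- `u` and `c * y` are conjugate
          have hcy2 : c * y * (c * y) = 1 := by
            rw [mul_assoc, ← mul_assoc y c y, L.comm_cy.symm.eq, mul_assoc c y y, hyy, mul_one, hcc]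
          obtain ⟨a, -, ha⟩ | ⟨i, hi0, hi1, hi2, hi3⟩ := exists_between_involutions huu hcy2
          · exact (hnc a).2 ha
          · have e : (u * (c * y)) ^ k = 1 := by
              rw [← mul_assoc, huc.eq, mul_assoc, Commute.mul_pow (huc.symm.mul_right L.comm_cy), hzc, hj, pow_succ,
                pow_mul, sq, hcc, one_pow, one_mul, hcc]
            have h1 : i + i ∣ k := hi3 ▸ orderOf_dvd_of_pow_eq_one e
            obtain ⟨q, hq⟩ := h1
            have : k = 2 * (i * q) := by rw [hq]; ring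
            omega
      · exact ⟨(u * y) ^ k, (middle huu hyy k).1, (middle huu hyy k).2, Or.inl (by rw [← pow_add, hk1]),
          (huc.mul_left hyc).pow_left k, hk2, hzc⟩
    obtain ⟨hzc, hz0, hzne⟩ := hz1
    rcases hz2 with hz2 | hz2
    swap
    · -- `z` normalizes the pair, and `c` is no square in `G0`
      have hzi : z⁻¹ = z * c := by
        refine inv_eq_of_mul_eq_one_right ?_
        rw [← mul_assoc, hz2, hcc]
      have hzy' : z * y * z⁻¹ = c * y := by
        have h1 : y * z = z⁻¹ * y := by rw [← hzy]; group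
        calc z * y * z⁻¹ = z * (y * (z * c)) := by rw [hzi]; group
          _ = z * (z⁻¹ * y * c) := by rw [← mul_assoc y, h1]
          _ = c * y := by rw [L.comm_cy.eq]; group
      have hzP : ∀ v, v ∈ pairCen c y → z * v * z⁻¹ ∈ pairCen c y := fun v hv => by
        obtain ⟨h1, h2⟩ := mem_pairCen.1 hv
        have e1 := commute_conj z h1
        have e2 := commute_conj z h2
        rw [hzc.eq, mul_inv_cancel_right] at e1
        rw [hzy'] at e2
        refine mem_pairCen.2 ⟨e1, ?_⟩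
        have := e1.inv_right.mul_right e2
        rwa [inv_mul_cancel_left] at this
      have hzG : z ∈ G0 := hA t htG (IsConj.refl t) z (hY (hzP t (mem_pairCen.2 ⟨L.comm_c, L.comm_y⟩)))
      -- `z` is conjugate into the Sylow subgroup of `C(t)`
      haveI : Fact (Nat.Prime 2) := ⟨Nat.prime_two⟩
      obtain ⟨T, hT, hTcard, hTZ⟩ := L.sylow
      obtain ⟨P, hTP⟩ := ((IsPGroup.of_card (n := 10) hTcard : IsPGroup 2 T).comap_subtype (K := G0)).exists_le_sylow
      have hPT : (P : Subgroup G0).map G0.subtype = T :=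
        L.two_group_eq hT hTcard hTZ (P.2.map _) fun v hv => ⟨⟨v, hle (hT hv)⟩, hTP hv, rfl⟩
      have hz4 : (⟨z, hzG⟩ : G0) ^ (2 ^ 2) = 1 := Subtype.ext (by
        show z ^ (2 ^ 2) = 1
        rw [show (2 : ℕ) ^ 2 = 2 * 2 from rfl, pow_mul, sq z, hz2, sq, hcc])
      obtain ⟨Q, hQ⟩ := (show IsPGroup 2 (zpowers (⟨z, hzG⟩ : G0)) from fun x => by
        obtain ⟨x, hx⟩ := x
        obtain ⟨i, rfl⟩ := mem_zpowers_iff.1 hx
        exact ⟨2, Subtype.ext (show ((⟨z, hzG⟩ : G0) ^ i) ^ (2 ^ 2) = 1 by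
          rw [← zpow_natCast, ← zpow_mul, mul_comm, zpow_mul, zpow_natCast, hz4, one_zpow])⟩).exists_le_sylow
      obtain ⟨a, ha⟩ := MulAction.exists_smul_eq G0 Q P
      have hm : (a : G) * z * (a : G)⁻¹ ∈ centralizer ({t} : Set G) := hT (hPT ▸
        (⟨a * ⟨z, hzG⟩ * a⁻¹, ha ▸ ⟨_, hQ (mem_zpowers _), rfl⟩, rfl⟩ :
          (a : G) * z * (a : G)⁻¹ ∈ (P : Subgroup G0).map G0.subtype))
      have hm2 : (a : G) * z * (a : G)⁻¹ * ((a : G) * z * (a : G)⁻¹) = (a : G) * c * (a : G)⁻¹ := by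
        rw [← hz2]; group
      have hac : ConjIn t c ((a : G) * c * (a : G)⁻¹) := L.c_of_not_conj hts (hm2 ▸ mul_mem hm hm)
        (by rw [orderOf_conj, L.ord_c]) (hcnot a)
      exact L.not_sq hac (mem_cen.1 hm) hm2
    · have hzi : z⁻¹ = z := inv_eq_of_mul_eq_one_right hz2
      have hzu' : Commute u z := mul_inv_eq_iff_eq_mul.1 (hzu.trans hzi)
      have hzy' : Commute z y := (mul_inv_eq_iff_eq_mul.1 (hzy.trans hzi) : y * z = z * y).symm
      have hzG : z ∈ G0 := hY (mem_pairCen.2 ⟨hzc, hzy'⟩)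
      have hczG : c * z ∈ G0 := mul_mem hcG hzG
      by_cases hzD : IsConj t z
      · exact huG (hCD z hzG hzD u hzu')
      by_cases hczD : IsConj t (c * z)
      · exact huG (hCD _ hczG hczD u (huc.mul_right hzu'))
      -- `⟨c, z⟩` is a pair
      have hcz2 : c * z * (c * z) = 1 := by
        rw [mul_assoc, ← mul_assoc z c z, hzc.eq, mul_assoc c z z, hz2, mul_one, hcc]
      obtain ⟨a, ha, hac⟩ : ∃ a ∈ G0, a * c * a⁻¹ = z := by
        rcases hcls z hzG hz2 hz0 with ⟨a, ha, rfl⟩ | h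
        exacts [absurd (isConj_iff.2 ⟨a, rfl⟩) hzD, h]
      -- move `z` to `c`
      set c' := a⁻¹ * c * a with hc'
      have hc'G : c' ∈ G0 := mul_mem (mul_mem (inv_mem ha) hcG) ha
      have hc'c : Commute c' c := by
        have := commute_conj a⁻¹ hzc.symm
        rwa [← hac, inv_inv, show a⁻¹ * (a * c * a⁻¹) * a = c by group] at this
      -- the pair `c, c'` commutes with a conjugate of `t` in `C(t)`
      haveI : Fact (Nat.Prime 2) := ⟨Nat.prime_two⟩
      obtain ⟨T, hT, hTcard, hTZ⟩ := L.sylow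
      obtain ⟨P, hTP⟩ := ((IsPGroup.of_card (n := 10) hTcard : IsPGroup 2 T).comap_subtype (K := G0)).exists_le_sylow
      have hPT : (P : Subgroup G0).map G0.subtype = T :=
        L.two_group_eq hT hTcard hTZ (P.2.map _) fun v hv => ⟨⟨v, hle (hT hv)⟩, hTP hv, rfl⟩
      let E := closure ({⟨c, hcG⟩, ⟨z, hzG⟩} : Set G0)
      haveI : IsMulCommutative E := Subgroup.isMulCommutative_closure (by
        rintro x (rfl | rfl) x' (rfl | rfl)
        exacts [rfl, Subtype.ext hzc.eq.symm, Subtype.ext hzc.eq, rfl])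
      have hE : IsPGroup 2 E := fun x => by
        refine ⟨1, ?_⟩
        obtain ⟨x, hx⟩ := x
        apply Subtype.ext
        show x ^ (2 ^ 1) = 1
        rw [pow_one]
        induction hx using closure_induction with
        | mem v hv =>
          rcases hv with rfl | rfl <;> rw [sq] <;> apply Subtype.ext
          exacts [hcc, hz2]
        | one => exact one_pow _
        | mul v v' hv hv' ih ih' =>
          rw [(show Commute v v' from congrArg Subtype.val (IsMulCommutative.is_comm.comm (⟨v, hv⟩ : E) ⟨v', hv'⟩)).mul_pow,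
            ih, ih', one_mul]
        | inv v hv ih => rw [inv_pow, ih, inv_one]
      obtain ⟨Q, hQ⟩ := hE.exists_le_sylow
      obtain ⟨b, hb⟩ := MulAction.exists_smul_eq G0 Q P
      have hin : ∀ x : G0, x ∈ E → (b : G) * x * (b : G)⁻¹ ∈ centralizer ({t} : Set G) := fun x hx =>
        hT (hPT ▸ (⟨b * x * b⁻¹, hb ▸ ⟨x, hQ hx, rfl⟩, rfl⟩ :
          (b : G) * x * (b : G)⁻¹ ∈ (P : Subgroup G0).map G0.subtype))
      have hcE : (⟨c, hcG⟩ : G0) ∈ E := subset_closure (Or.inl rfl)
      have hzE : (⟨z, hzG⟩ : G0) ∈ E := subset_closure (Or.inr rfl)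
      have htype : ∀ x : G0, x ∈ E → (x : G) * x = 1 → (x : G) ≠ 1 → ¬ IsConj t (x : G) →
          ConjIn t c ((b : G) * x * (b : G)⁻¹) := fun x hx h2 h1 hn =>
        L.c_of_not_conj hts (hin x hx) (by rw [orderOf_conj, orderOf_eq_prime_iff]; exact ⟨by rw [sq, h2], h1⟩)
          fun h => hn (h.trans (IsConj.symm (isConj_iff.2 ⟨b, rfl⟩)))
      have hcn : ¬ IsConj t c := L.not_conj_of_c ⟨1, one_mem _, by group⟩
      have hc1 : c ≠ 1 := fun h => hk2 (by
        have := L.ord_c
        rw [h, orderOf_one] at this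
        omega)
      obtain ⟨h, hh, h1, h2⟩ := L.pairs _ (hin _ hcE) _ (hin _ hzE) (commute_conj (b : G) hzc.symm)
        (htype _ hcE hcc hc1 hcn) (htype _ hzE hz2 hz0 hzD) (by
          have := htype _ (mul_mem hcE hzE) hcz2 (fun h => hzne (by
            rw [Subgroup.coe_mul] at h
            exact ((mul_eq_one_iff_eq_inv.1 h).trans hzi).symm)) hczD
          simp only [Subgroup.coe_mul] at this
          rwa [show (b : G) * (c * z) * (b : G)⁻¹ = (b : G) * c * (b : G)⁻¹ * ((b : G) * z * (b : G)⁻¹) by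
            group] at this)
      -- `u` centralizes a conjugate of the pair
      set r := h⁻¹ * (b : G) with hr
      have hrG : r ∈ G0 := mul_mem (inv_mem (hle hh)) b.2
      have hrc : r * c * r⁻¹ = c := by
        rw [show r * c * r⁻¹ = h⁻¹ * ((b : G) * c * (b : G)⁻¹) * h by rw [hr]; group, ← h1]; group
      have hrz : r * z * r⁻¹ = y ∨ r * (c * z) * r⁻¹ = y := by
        rcases h2 with e | e
        · left
          rw [show r * z * r⁻¹ = h⁻¹ * ((b : G) * z * (b : G)⁻¹) * h by rw [hr]; group, ← e]; group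
        · right
          rw [show r * (c * z) * r⁻¹ = h⁻¹ * ((b : G) * c * (b : G)⁻¹ * ((b : G) * z * (b : G)⁻¹)) * h by
            rw [hr]; group, ← e]; group
      have hru : r * u * r⁻¹ ∈ G0 := hY (mem_pairCen.2 ⟨by
          have := commute_conj r huc
          rwa [hrc] at this, by
          rcases hrz with e | e
          · have := commute_conj r hzu'
            rwa [e] at this
          · have := commute_conj r (huc.mul_right hzu')
            rwa [e] at this⟩)
      have := mul_mem (mul_mem (inv_mem hrG) hru) hrG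
      rw [show r⁻¹ * (r * u * r⁻¹) * r = u by group] at this
      exact huG this
  -- top
  rw [eq_top_iff]
  intro g _
  by_contra hg
  set u := g * t * g⁻¹ with hu
  have huG : u ∉ G0 := fun h => hg (hA t htG (IsConj.refl t) g h)
  have hut : IsConj t u := isConj_iff.2 ⟨g, rfl⟩
  have huu : u * u = 1 := (hinv u hut).1
  rcases exists_between_involutions huu hcc with ⟨a, -, ha⟩ | ⟨k, -, hk1, hk2, -⟩
  · exact L.not_conj_of_c ⟨1, one_mem _, by group⟩ (ha ▸ hut.trans (isConj_iff.2 ⟨a, rfl⟩))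
  · set z := (u * c) ^ k with hz
    have hzz : z * z = 1 := by rw [hz, ← pow_add, hk1]
    have hzi : z⁻¹ = z := inv_eq_of_mul_eq_one_right hzz
    have hzu : Commute u z := mul_inv_eq_iff_eq_mul.1 ((middle huu hcc k).1.trans hzi)
    have hzc : Commute z c :=
      (mul_inv_eq_iff_eq_mul.1 ((middle huu hcc k).2.trans hzi) : c * z = z * c).symm
    have hzG : z ∈ G0 := hC z hzc
    rcases hcls z hzG hzz hk2 with ⟨a, ha, hae⟩ | ⟨a, ha, hae⟩
    · exact huG (hCD z hzG (isConj_iff.2 ⟨a, hae⟩) u hzu)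
    · have h1 := commute_conj a⁻¹ hzu
      rw [← hae, inv_inv, show a⁻¹ * (a * c * a⁻¹) * a = c by group] at h1
      have := mul_mem (mul_mem ha (hC _ h1)) (inv_mem ha)
      rw [show a * (a⁻¹ * u * a) * a⁻¹ = u by group] at this
      exact huG this

end Loc

end CfsgLib.Co3U
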