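import Cfsg.Agent.SpSixMult.Upper
import Cfsg.Agent.SpSixMult.Clifford
import Cfsg.Agent.Classical.SymplecticSimple
import Cfsg.Prelude.Def_SporadicB

/-!
# The double cover of `Sp₆(2)` as a matrix group

A non-split double cover of `Sp₆(2)` is isomorphic to the subgroup of `GL₈(3)` generated by the products
`X₀ Xᵢ` of the Clifford matrices, the central involution going to `-1`.
-/

set_option autoImplicit false
set_option linter.style.haveILetI false

namespace CfsgLib.Co3U

open Subgroup CfsgLib.SpSixMult
open scoped commutatorElement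

universe u

/-- The symplectic group of rank three over two elements. -/
abbrev K6 : Type := ↥(Matrix.symplecticGroup (Fin 3) (ZMod 2))

/-- The matrix double cover. -/
def Gam : Subgroup (GL (Fin 8) (ZMod 3)) :=
  closure (Set.range fun i : Fin 6 => X 0 * X i.succ)

theorem zmod_two_cases : ∀ x : ZMod 2, x = 0 ∨ x = 1 := by decide

theorem card_K6 : Nat.card K6 = 1451520 := card_sp6 zmod_two_cases

theorem perfect_K6 : commutator K6 = ⊤ := SpMult.perfect_spn 3 (by norm_num) (Or.inl le_rfl)

theorem simple_K6 : IsSimpleGroup K6 := by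
  have hZ : center K6 = ⊥ := by
    rw [← Subgroup.card_eq_one, CfsgLib.Symp.card_center, Nat.card_eq_fintype_card, ZMod.card]
    rfl
  haveI : Nontrivial K6 := Finite.one_lt_card_iff_nontrivial.mp (by rw [card_K6]; norm_num)
  haveI := CfsgLib.Symp.isSimpleGroup_quot (l := Fin 3) (F := ZMod 2) (Or.inl (by simp))
  exact IsSimpleGroup.isSimpleGroup_of_surjective
    ((QuotientGroup.quotientMulEquivOfEq hZ).trans QuotientGroup.quotientBot).toMonoidHom
    (MulEquiv.surjective _)

theorem s_sq (i : Fin 7) : s i * s i = 1 := CoxeterMatrix.E₇.toCoxeterSystem.simple_mul_simple_self i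

theorem s_inv (i : Fin 7) : (s i)⁻¹ = s i := inv_eq_of_mul_eq_one_right (s_sq i)

theorem neg_one_mem : (-1 : GL (Fin 8) (ZMod 3)) ∈ Gam := by
  have ha : X 0 * X 1 ∈ Gam := subset_closure ⟨0, rfl⟩
  have hb : X 0 * X 4 ∈ Gam := subset_closure ⟨3, rfl⟩
  have hab : X 0 * X 1 * (X 0 * X 4) = -(X 0 * X 4 * (X 0 * X 1)) := by
    apply Units.ext
    simp only [Units.val_mul, Units.val_neg]
    show mat 0 * mat 1 * (mat 0 * mat 4) = -(mat 0 * mat 4 * (mat 0 * mat 1))
    decide +kernel
  have h : X 0 * X 1 * (X 0 * X 4) * (X 0 * X 4 * (X 0 * X 1))⁻¹ = -1 := by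
    rw [hab, neg_mul, mul_inv_cancel]
  rw [← h]
  exact mul_mem (mul_mem ha hb) (inv_mem (mul_mem hb ha))

theorem mem_pm_iff {g : GL (Fin 8) (ZMod 3)} : g ∈ pm ↔ g = 1 ∨ g = -1 := by
  constructor
  · intro hg
    obtain ⟨k, rfl⟩ := mem_zpowers_iff.1 hg
    rcases Int.even_or_odd k with h | h
    exacts [Or.inl h.neg_one_zpow, Or.inr h.neg_one_zpow]
  · rintro (rfl | rfl)
    exacts [one_mem _, mem_zpowers _]

theorem neg_one_ne_one : (-1 : GL (Fin 8) (ZMod 3)) ≠ 1 := by
  intro h
  have := congrArg (fun g : GL (Fin 8) (ZMod 3) => (g : Matrix (Fin 8) (Fin 8) (ZMod 3)) 0 0) h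
  revert this
  simp
  decide

theorem commute_neg_one (g : GL (Fin 8) (ZMod 3)) : Commute g (-1) := by
  simp [Commute, SemiconjBy]

/-- The projection of the matrix cover onto `Sp₆(2)`. -/
theorem exists_proj : ∃ τ : Gam →* K6, Cfsg.IsStemExtension τ ∧ Nat.card τ.ker = 2 ∧
    ∀ x : Gam, τ x = 1 ↔ (x : GL (Fin 8) (ZMod 3)) ∈ pm := by
  classical
  obtain ⟨φ, hφs, hφ⟩ := exists_phi (F := ZMod 2) zmod_two_cases
  obtain ⟨ρ, hρ⟩ := exists_rho
  let φ' : commutator W →* K6 := φ.comp (commutator W).subtype
  have hs' : Function.Surjective φ' := fun g => by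
    obtain ⟨w, hw, rfl⟩ := (Schur.map_commutator_of_surjective φ hφs).ge (perfect_K6.ge (mem_top g))
    exact ⟨⟨w, hw⟩, rfl⟩
  have hb : Function.Bijective φ' := (Nat.bijective_iff_surjective_and_card φ').2 ⟨hs',
    le_antisymm (card_commutator_W.trans card_K6.ge) (Nat.card_le_card_of_surjective φ' hs')⟩
  let e := MulEquiv.ofBijective φ' hb
  let ψ : K6 →* GL (Fin 8) (ZMod 3) ⧸ pm := (ρ.comp (commutator W).subtype).comp e.symm.toMonoidHom
  have hψ : ∀ w (hw : w ∈ commutator W), ψ (φ w) = ρ w := fun w hw => by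
    show ρ (e.symm (φ w)).1 = ρ w
    rw [show φ w = e ⟨w, hw⟩ from rfl, e.symm_apply_apply]
  -- products of two simple reflections lie in the derived group
  have hmem : ∀ i j, s i * s j ∈ commutator W := by
    have hab : ∀ a, (Abelianization.of (s a) : Abelianization W) = Abelianization.of (s 0) := by
      have h : ∀ a b, CoxeterMatrix.E₇ a b = 3 →
          (Abelianization.of (s a) : Abelianization W) = Abelianization.of (s b) := fun a b h => by
        have e := congrArg Abelianization.of (show (s a * s b) ^ CoxeterMatrix.E₇ a b = 1 from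
          CoxeterMatrix.E₇.toCoxeterSystem.simple_mul_simple_pow a b)
        have ha := congrArg Abelianization.of (show s a * s a = 1 from
          CoxeterMatrix.E₇.toCoxeterSystem.simple_mul_simple_self a)
        have hb := congrArg Abelianization.of (show s b * s b = 1 from
          CoxeterMatrix.E₇.toCoxeterSystem.simple_mul_simple_self b)
        rw [h, map_pow, map_mul, map_one] at e
        rw [map_mul, map_one] at ha hb
        calc Abelianization.of (s a)
            = Abelianization.of (s a) * (Abelianization.of (s a) * Abelianization.of (s b)) ^ 3 := by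
              rw [e, mul_one]
          _ = Abelianization.of (s a) * Abelianization.of (s a) *
              (Abelianization.of (s a) * Abelianization.of (s a)) *
              (Abelianization.of (s b) * Abelianization.of (s b)) * Abelianization.of (s b) := by
              simp only [pow_succ, pow_zero, one_mul, mul_comm, mul_left_comm]
          _ = _ := by rw [ha, hb, one_mul, one_mul, one_mul]
      have h20 := h 2 0 (by decide)
      have h30 := (h 3 2 (by decide)).trans h20
      have h40 := (h 4 3 (by decide)).trans h30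
      have h50 := (h 5 4 (by decide)).trans h40
      intro a
      fin_cases a
      exacts [rfl, (h 1 3 (by decide)).trans h30, h20, h30, h40, h50, (h 6 5 (by decide)).trans h50]
    intro i j
    rw [← QuotientGroup.eq_one_iff]
    show Abelianization.of (s i * s j) = (1 : Abelianization W)
    rw [map_mul, hab i, hab j, ← map_mul, show s 0 * s 0 = 1 from
      CoxeterMatrix.E₇.toCoxeterSystem.simple_mul_simple_self 0, map_one]
  have hqR : ∀ g ∈ Gam, q g ∈ ψ.range := by
    intro g hg
    refine (closure_le (ψ.range.comap q)).2 ?_ hg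
    rintro _ ⟨i, rfl⟩
    refine ⟨φ (s 0 * s i.succ), ?_⟩
    rw [hψ _ (hmem 0 i.succ), map_mul, map_mul, hρ, hρ]
  haveI := simple_K6
  have hψi : Function.Injective ψ := by
    rw [← MonoidHom.ker_eq_bot_iff]
    refine ψ.normal_ker.eq_bot_or_eq_top.resolve_right fun h => neg_one_ne_one ?_
    have h1 : ∀ g ∈ Gam, g = 1 ∨ g = -1 := fun g hg => by
      obtain ⟨k, hk⟩ := hqR g hg
      rw [MonoidHom.mem_ker.1 (h ▸ mem_top k)] at hk
      exact mem_pm_iff.1 ((QuotientGroup.eq_one_iff _).1 hk.symm)
    have h2 : ∀ x y : GL (Fin 8) (ZMod 3), x ∈ Gam → y ∈ Gam → x * y = y * x := fun x y hx hy => by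
      rcases h1 x hx with rfl | rfl
      · simp
      · exact (commute_neg_one y).symm.eq
    have ha : X 0 * X 1 ∈ Gam := subset_closure ⟨0, rfl⟩
    have hb : X 0 * X 4 ∈ Gam := subset_closure ⟨3, rfl⟩
    have hab : X 0 * X 1 * (X 0 * X 4) = -1 * (X 0 * X 4 * (X 0 * X 1)) := by
      apply Units.ext
      simp only [Units.val_mul, Units.val_neg, neg_mul, one_mul]
      show mat 0 * mat 1 * (mat 0 * mat 4) = -(mat 0 * mat 4 * (mat 0 * mat 1))
      decide +kernel
    rw [h2 _ _ ha hb] at hab
    exact (mul_eq_right.1 hab.symm)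
  let τ : Gam →* K6 :=
    (MonoidHom.ofInjective hψi).symm.toMonoidHom.comp ((q.comp Gam.subtype).codRestrict ψ.range fun x => hqR x x.2)
  have hτ : ∀ x : Gam, ψ (τ x) = q x := fun x =>
    congrArg Subtype.val ((MonoidHom.ofInjective hψi).apply_symm_apply ⟨q x, hqR x x.2⟩)
  have hker : ∀ x : Gam, τ x = 1 ↔ (x : GL (Fin 8) (ZMod 3)) ∈ pm := fun x => by
    rw [← hψi.eq_iff, hτ, map_one, QuotientGroup.mk'_apply, QuotientGroup.eq_one_iff]
  let z : Gam := ⟨-1, neg_one_mem⟩
  have hker2 : ∀ x : Gam, x ∈ τ.ker ↔ x = 1 ∨ x = z := fun x => by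
    rw [MonoidHom.mem_ker, hker, mem_pm_iff]
    exact ⟨fun h => h.imp (fun e => Subtype.ext e) (fun e => Subtype.ext e),
      fun h => h.imp (congrArg Subtype.val) (congrArg Subtype.val)⟩
  have hsurj : Function.Surjective τ := by
    intro k
    have hk : k ∈ τ.range := by
      have htop : (⊤ : Subgroup K6) ≤ τ.range := by
        have hgen : ∀ i : Fin 6, φ (s 0 * s i.succ) ∈ τ.range := fun i =>
          ⟨⟨X 0 * X i.succ, subset_closure ⟨i, rfl⟩⟩, hψi (by
            rw [hτ, hψ _ (hmem 0 i.succ), map_mul ρ, hρ, hρ]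
            exact (map_mul q _ _))⟩
        -- the products generate a subgroup of index at most two of the whole image
        set R := τ.range
        have hpair : ∀ i j : Fin 7, φ (s i * s j) ∈ R := by
          have h0 : ∀ i : Fin 7, φ (s 0 * s i) ∈ R := fun i => by
            refine Fin.cases ?_ hgen i
            rw [show s 0 * s 0 = 1 from CoxeterMatrix.E₇.toCoxeterSystem.simple_mul_simple_self 0, map_one]
            exact one_mem R
          intro i j
          rw [show s i * s j = (s 0 * s i)⁻¹ * (s 0 * s j) by rw [mul_inv_rev, s_inv, s_inv, mul_assoc,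
            ← mul_assoc (s 0), s_sq, one_mul],
            map_mul, map_inv]
          exact mul_mem (inv_mem (h0 i)) (h0 j)
        haveI : R.Normal := by
          rw [← normalizer_eq_top_iff, eq_top_iff]
          intro k _
          obtain ⟨w, rfl⟩ := hφs k
          refine CoxeterMatrix.E₇.toCoxeterSystem.simple_induction (p := fun w => φ w ∈ normalizer (R : Set K6))
            w (fun i => ?_) (by rw [map_one]; exact one_mem _) (fun a b ha hb => by rw [map_mul]; exact mul_mem ha hb)
          show φ (s i) ∈ normalizer (R : Set K6)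
          have hc : ∀ r ∈ R, φ (s i) * r * (φ (s i))⁻¹ ∈ R := by
            rintro _ ⟨⟨g, hg⟩, rfl⟩
            induction hg using closure_induction with
            | mem g hg =>
              obtain ⟨j, rfl⟩ := hg
              have e : τ ⟨X 0 * X j.succ, subset_closure ⟨j, rfl⟩⟩ = φ (s 0 * s j.succ) := hψi (by
                rw [hτ, hψ _ (hmem 0 j.succ), map_mul ρ, hρ, hρ]
                exact (map_mul q _ _))
              rw [e, ← map_mul, ← map_inv, ← map_mul, s_inv,
                show s i * (s 0 * s j.succ) * s i = (s i * s 0) * (s j.succ * s i) by simp only [mul_assoc],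
                map_mul]
              exact mul_mem (hpair _ _) (hpair _ _)
            | one =>
              rw [show (⟨1, one_mem _⟩ : Gam) = 1 from rfl, map_one, mul_one, mul_inv_cancel]
              exact one_mem R
            | mul a b ha hb iha ihb =>
              rw [show (⟨a * b, mul_mem ha hb⟩ : Gam) = ⟨a, ha⟩ * ⟨b, hb⟩ from rfl, map_mul,
                show ∀ x y w : K6, x * (y * w) * x⁻¹ = (x * y * x⁻¹) * (x * w * x⁻¹) from
                  fun x y w => by group]
              exact mul_mem iha ihb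
            | inv a ha iha =>
              rw [show (⟨a⁻¹, inv_mem ha⟩ : Gam) = ⟨a, ha⟩⁻¹ from rfl, map_inv,
                show ∀ x y : K6, x * y⁻¹ * x⁻¹ = (x * y * x⁻¹)⁻¹ from fun x y => by group]
              exact inv_mem iha
          refine mem_normalizer_iff.2 fun r => ⟨hc r, fun hr => ?_⟩
          have h := hc _ hr
          have e2 : φ (s i) * φ (s i) = 1 := by
            rw [← map_mul, s_sq, map_one]
          rw [inv_eq_of_mul_eq_one_right e2] at h
          rwa [show φ (s i) * (φ (s i) * r * φ (s i)) * φ (s i) = r by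
            simp only [← mul_assoc, e2, one_mul]
            rw [mul_assoc, e2, mul_one]] at h
        rcases (inferInstance : R.Normal).eq_bot_or_eq_top with h | h
        · exfalso
          refine neg_one_ne_one ?_
          have hall : ∀ x : Gam, (x : GL (Fin 8) (ZMod 3)) ∈ pm := fun x =>
            (hker x).1 (mem_bot.1 (h ▸ ⟨x, rfl⟩ : τ x ∈ (⊥ : Subgroup K6)))
          have ha : X 0 * X 1 ∈ Gam := subset_closure ⟨0, rfl⟩
          have hb : X 0 * X 4 ∈ Gam := subset_closure ⟨3, rfl⟩
          have hab : X 0 * X 1 * (X 0 * X 4) = -1 * (X 0 * X 4 * (X 0 * X 1)) := by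
            apply Units.ext
            simp only [Units.val_mul, Units.val_neg, neg_mul, one_mul]
            show mat 0 * mat 1 * (mat 0 * mat 4) = -(mat 0 * mat 4 * (mat 0 * mat 1))
            decide +kernel
          have hc : X 0 * X 1 * (X 0 * X 4) = X 0 * X 4 * (X 0 * X 1) := by
            rcases (mem_pm_iff.1 (hall ⟨_, ha⟩) : X 0 * X 1 = 1 ∨ X 0 * X 1 = -1) with e | e <;> rw [e]
            · simp
            · exact (commute_neg_one _).symm.eq
          rw [hc] at hab
          exact (mul_eq_right.1 hab.symm)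
        · exact h.ge
      exact htop (mem_top k)
    exact hk
  have hcen : τ.ker ≤ center Gam := fun x hx => mem_center_iff.2 fun y => Subtype.ext (by
    rcases (hker2 x).1 hx with rfl | rfl
    · simp
    · exact (commute_neg_one (y : GL (Fin 8) (ZMod 3))).eq)
  have hz : z ∈ commutator Gam := by
    have h := commutator_mem_commutator (mem_top (⟨X 0 * X 1, subset_closure ⟨0, rfl⟩⟩ : Gam))
      (mem_top (⟨X 0 * X 4, subset_closure ⟨3, rfl⟩⟩ : Gam))
    rw [_root_.commutator_def]
    convert h using 1
    rw [commutatorElement_def]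
    apply Subtype.ext
    apply Units.ext
    show ((-1 : GL (Fin 8) (ZMod 3)) : Matrix (Fin 8) (Fin 8) (ZMod 3)) =
      mat 0 * mat 1 * (mat 0 * mat 4) * (-mat 1 * -mat 0) * (-mat 4 * -mat 0)
    rw [Units.val_neg, Units.val_one]
    decide +kernel
  refine ⟨τ, ⟨hsurj, hcen, fun x hx => ?_⟩, ?_, hker⟩
  · rcases (hker2 x).1 hx with rfl | rfl
    exacts [one_mem _, hz]
  · rw [Nat.card_eq_two_iff]
    refine ⟨1, ⟨z, (hker2 z).2 (Or.inr rfl)⟩, fun h => neg_one_ne_one ?_, ?_⟩
    · exact (congrArg (fun x : τ.ker => ((x : Gam) : GL (Fin 8) (ZMod 3))) h).symm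
    · refine Set.eq_univ_of_forall fun x => ?_
      rcases (hker2 x.1).1 x.2 with e | e
      exacts [Or.inl (Subtype.ext e), Or.inr (Subtype.ext e)]

/-- **A non-split double cover of `Sp₆(2)` is the matrix group.** -/
theorem exists_iso {H : Type u} [Group H] [Finite H]
    (hH : Cfsg.IsNonsplitDoubleCover H K6) : ∃ e : H ≃* Gam, ∀ z ∈ center H, z ≠ 1 →
      ((e z : Gam) : GL (Fin 8) (ZMod 3)) = -1 := by
  classical
  obtain ⟨τ, hτ, hτ2, hτk⟩ := exists_proj
  obtain ⟨hc2, ⟨e0⟩, hns⟩ := hH
  let π : H →* K6 := e0.toMonoidHom.comp (QuotientGroup.mk' (center H))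
  have hπs : Function.Surjective π := e0.surjective.comp (QuotientGroup.mk'_surjective _)
  have hπk : π.ker = center H := by
    ext x
    show e0 (QuotientGroup.mk x) = 1 ↔ _
    rw [MulEquiv.map_eq_one_iff, QuotientGroup.eq_one_iff]
  -- perfect
  have hperfH : commutator H = ⊤ := by
    have hsup : commutator H ⊔ center H = ⊤ := by
      rw [← hπk, ← comap_map_eq, Schur.map_commutator_of_surjective π hπs, perfect_K6, comap_top]
    by_contra hne
    refine hns (commutator H) (isComplement'_of_disjoint_and_mul_eq_univ ?_ ?_)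
    · rw [disjoint_iff]
      haveI : Fact (Nat.Prime 2) := ⟨Nat.prime_two⟩
      haveI : Finite (center H) := inferInstance
      haveI : Fact (Nat.card (center H)).Prime := ⟨hc2.symm ▸ Nat.prime_two⟩
      rcases ((commutator H).subgroupOf (center H)).eq_bot_or_eq_top_of_prime_card with h | h
      · rw [inf_comm]; exact disjoint_iff.1 (subgroupOf_eq_bot.1 h)
      · exact absurd (sup_eq_left.2 (subgroupOf_eq_top.1 h) ▸ hsup) hne
    · rw [← Subgroup.mul_normal, sup_comm, hsup, coe_top]
  have hπ : Cfsg.IsStemExtension π := ⟨hπs, hπk.le, hperfH ▸ le_top⟩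
  -- the derived group of the pullback
  let P := Schur.pullback π τ
  let D : Subgroup P := commutator P
  let f1 : D →* H := (Schur.pfst π τ).comp D.subtype
  let f2 : D →* Gam := (Schur.psnd π τ).comp D.subtype
  have hperfG : commutator Gam = ⊤ := by
    rw [eq_top_iff]
    intro g _
    obtain ⟨y, hy, hyg⟩ := (Schur.map_commutator_of_surjective τ hτ.1).ge (perfect_K6.ge (mem_top (τ g)))
    rw [show g = y * (y⁻¹ * g) by group]
    refine mul_mem hy (hτ.2.2 ?_)
    rw [MonoidHom.mem_ker, map_mul, map_inv, hyg, inv_mul_cancel]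
  have h1s : Function.Surjective f1 := fun h => by
    obtain ⟨x, hx, rfl⟩ := (Schur.map_commutator_of_surjective _ (Schur.pfst_surjective π τ hτ.1)).ge
      (hperfH.ge (mem_top h))
    exact ⟨⟨x, hx⟩, rfl⟩
  have h2s : Function.Surjective f2 := fun g => by
    obtain ⟨x, hx, rfl⟩ := (Schur.map_commutator_of_surjective _ (Schur.psnd_surjective π τ hπs)).ge
      (hperfG.ge (mem_top g))
    exact ⟨⟨x, hx⟩, rfl⟩
  let σ : P →* K6 := π.comp (Schur.pfst π τ)
  let σD : D →* K6 := σ.comp D.subtype
  have hσc : σ.ker ≤ center P := by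
    intro x hx
    refine mem_center_iff.2 fun y => Subtype.ext (Prod.ext ?_ ?_)
    · exact mem_center_iff.1 (hπk.le hx) y.1.1
    · refine mem_center_iff.1 (hτ.2.1 ?_) y.1.2
      rw [MonoidHom.mem_ker, ← Schur.mem_pullback.1 x.2]
      exact hx
  have hσD : Function.Surjective σD := hπs.comp h1s
  have hDD : commutator D = ⊤ := by
    rw [eq_top_iff]
    rintro ⟨x, hx⟩ -
    have hsplit : ∀ p : P, ∃ d ∈ D, ∃ k ∈ center P, p = d * k := fun p => by
      obtain ⟨d, hd⟩ := hσD (σ p)
      refine ⟨d, d.2, (d : P)⁻¹ * p, hσc ?_, by group⟩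
      rw [MonoidHom.mem_ker, map_mul, map_inv]
      show (σD d)⁻¹ * σ p = 1
      rw [hd, inv_mul_cancel]
    have hle : D ≤ (commutator D).map D.subtype := by
      show commutator P ≤ _
      rw [_root_.commutator_def, commutator_le]
      intro a _ b _
      obtain ⟨da, hda, ka, hka, rfl⟩ := hsplit a
      obtain ⟨db, hdb, kb, hkb, rfl⟩ := hsplit b
      rw [Schur.commutator_mul_central hka hkb]
      exact ⟨⁅⟨da, hda⟩, ⟨db, hdb⟩⁆, commutator_mem_commutator (mem_top _) (mem_top _), rfl⟩
    obtain ⟨d, hd, hdx⟩ := hle hx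
    rwa [show (⟨x, hx⟩ : D) = d from Subtype.ext hdx.symm]
  have hσDstem : Cfsg.IsStemExtension σD := ⟨hσD,
    fun x hx => mem_center_iff.2 fun y => Subtype.ext (mem_center_iff.1 (hσc (x := (x : P)) hx) y),
    hDD ▸ le_top⟩
  obtain ⟨φ, hφs, hφ⟩ := exists_phi (F := ZMod 2) zmod_two_cases
  have hbound := ker_le_two hσDstem perfect_K6 card_K6 (fun i => (gen i : K6)) (by
      have hs : Subgroup.closure (Set.range s) = ⊤ :=
        CoxeterMatrix.E₇.toCoxeterSystem.subgroup_closure_range_simple
      have := congrArg (Subgroup.map φ) hs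
      rw [MonoidHom.map_closure, map_top_of_surjective φ hφs, ← Set.range_comp] at this
      refine Eq.trans ?_ this
      exact congrArg Subgroup.closure (congrArg Set.range (funext fun i => (hφ i).symm)))
    gen_sq gen_comm gen_braid
  have hcardD : Nat.card D ≤ 2903040 := by
    rw [← σD.ker.card_mul_index, Subgroup.index_ker, MonoidHom.range_eq_top.2 hσD, Subgroup.card_top,
      card_K6]
    have := Nat.le_of_dvd two_pos hbound.2
    omega
  have hcard : ∀ {E : Type u} [Group E] (f : E →* K6), Function.Surjective f → Nat.card f.ker = 2 →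
      Nat.card E = 2903040 := fun f hf h => by
    rw [← f.ker.card_mul_index, Subgroup.index_ker, MonoidHom.range_eq_top.2 hf, Subgroup.card_top,
      card_K6, h]
  have hcardH : Nat.card H = 2903040 := hcard π hπs (hπk ▸ hc2)
  have hcardG : Nat.card Gam = 2903040 := by
    rw [← τ.ker.card_mul_index, Subgroup.index_ker, MonoidHom.range_eq_top.2 hτ.1, Subgroup.card_top,
      card_K6, hτ2]
  have b1 : Function.Bijective f1 := (Nat.bijective_iff_surjective_and_card f1).2 ⟨h1s,
    le_antisymm (hcardD.trans hcardH.ge) (Nat.card_le_card_of_surjective f1 h1s)⟩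
  have b2 : Function.Bijective f2 := (Nat.bijective_iff_surjective_and_card f2).2 ⟨h2s,
    le_antisymm (hcardD.trans hcardG.ge) (Nat.card_le_card_of_surjective f2 h2s)⟩
  let e := (MulEquiv.ofBijective f1 b1).symm.trans (MulEquiv.ofBijective f2 b2)
  refine ⟨e, fun z hz hz1 => ?_⟩
  have hd := (MulEquiv.ofBijective f1 b1).apply_symm_apply z
  set d := (MulEquiv.ofBijective f1 b1).symm z
  have h0 : τ (e z) = 1 := by
    show τ ((d : P).1.2) = 1
    rw [← Schur.mem_pullback.1 (d : P).2]
    show π (f1 d) = 1
    rw [show f1 d = z from hd, ← MonoidHom.mem_ker, hπk]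
    exact hz
  rcases mem_pm_iff.1 ((hτk _).1 h0) with h | h
  · exact absurd (e.map_eq_one_iff.1 (Subtype.ext h)) hz1
  · exact h

theorem card_Gam : Nat.card Gam = 2903040 := by
  obtain ⟨τ, hτ, hτ2, -⟩ := exists_proj
  rw [← τ.ker.card_mul_index, Subgroup.index_ker, MonoidHom.range_eq_top.2 hτ.1, Subgroup.card_top,
    card_K6, hτ2]

end CfsgLib.Co3U
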