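import Cfsg.Agent.CentFour.Main
import Mathlib.GroupTheory.SpecificGroups.Alternating
import Mathlib.GroupTheory.Sylow

/-!
# Groups in which every involution centralizer is a four group

Such a group has order 4, 12 or 60.
-/

set_option autoImplicit false
set_option linter.style.haveILetI false

namespace CfsgLib.Co3U

open Subgroup

theorem two_dvd_card {H : Type*} [Group H] [Finite H] [Nontrivial H] (h : IsPGroup 2 H) :
    2 ∣ Nat.card H := by
  haveI : Fact (Nat.Prime 2) := ⟨Nat.prime_two⟩
  obtain ⟨n, hn⟩ := IsPGroup.iff_card.1 h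
  have := Finite.one_lt_card (α := H)
  rw [hn] at this ⊢
  exact dvd_pow_self 2 (by rintro rfl; simp at this)

/-- All involution centralizers four groups: the order is 4, 12 or 60. -/
theorem card_of_four {K : Type*} [Group K] [Finite K] {x : K} (hx : orderOf x = 2)
    (hC : ∀ u : K, orderOf u = 2 → Nat.card (centralizer ({u} : Set K)) = 4 ∧
      ∀ k ∈ centralizer ({u} : Set K), k ^ 2 = 1) :
    Nat.card K = 4 ∨ Nat.card K = 12 ∨ Nat.card K = 60 := by
  classical
  haveI : Fact (Nat.Prime 2) := ⟨Nat.prime_two⟩
  have hinv : ∀ u : K, u ^ 2 = 1 → u ≠ 1 → orderOf u = 2 := fun u h h1 => orderOf_eq_prime h h1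
  -- a central involution leaves order four
  have hcentral : ∀ u : K, orderOf u = 2 → (∀ k, u * k = k * u) → Nat.card K = 4 := fun u hu h => by
    rw [← (hC u hu).1, show centralizer ({u} : Set K) = ⊤ from
      eq_top_iff.2 fun k _ => mem_centralizer_singleton_iff.2 (h k).symm, card_top]
  by_cases hE : ∀ E : Subgroup K, E.Normal → Cfsg.IsElementaryAbelian 2 E →
      Nat.card E ≠ 2 ∧ Nat.card E ≠ 4
  swap
  · push Not at hE
    obtain ⟨E, hEn, ⟨hEc, hE2⟩, hcard⟩ := hE
    by_cases h2 : Nat.card E = 2
    · left
      obtain ⟨a, b, hab, huniv⟩ := Nat.card_eq_two_iff.1 h2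
      obtain ⟨e, he⟩ : ∃ e : E, (e : K) ≠ 1 := by
        by_cases ha : (a : K) = 1
        · exact ⟨b, fun hb => hab (Subtype.ext (ha.trans hb.symm))⟩
        · exact ⟨a, ha⟩
      refine hcentral e (hinv _ (hE2 _ e.2) he) fun k => ?_
      have h := hEn.conj_mem _ e.2 k
      have h3 : ∀ u : E, u = a ∨ u = b := fun u => by
        have : u ∈ ({a, b} : Set E) := huniv ▸ Set.mem_univ u
        exact this
      have key : (⟨_, h⟩ : E) = e := by
        have hne : (⟨k * (e : K) * k⁻¹, h⟩ : E) ≠ 1 := fun h1 =>
          he (conj_eq_one_iff.1 (congrArg Subtype.val h1))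
        rcases h3 ⟨_, h⟩ with p | p <;> rcases h3 e with q | q <;> rcases h3 1 with r | r <;>
          first
            | exact p.trans q.symm
            | exact absurd (p.trans r.symm) hne
            | exact absurd (congrArg Subtype.val (q.trans r.symm)) he
      exact ((mul_inv_eq_iff_eq_mul.1 (congrArg Subtype.val key)) : k * e = e * k).symm
    · have h4 := hcard h2
      haveI : Nontrivial E := Finite.one_lt_card_iff_nontrivial.1 (by omega)
      obtain ⟨a, ha⟩ := exists_ne (1 : E)
      have ha' : (a : K) ≠ 1 := fun h => ha (Subtype.ext h)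
      have hao := hinv _ (hE2 _ a.2) ha'
      have hEC : E = centralizer ({(a : K)} : Set K) :=
        eq_of_le_of_card_ge (fun e he => mem_centralizer_singleton_iff.2
          (congrArg Subtype.val (hEc.is_comm.comm (⟨e, he⟩ : E) a))) (by rw [(hC _ hao).1, h4])
      have hidx : Nat.card K ≤ 4 * 3 := by
        haveI := Fintype.ofFinite K
        have h := CfsgLib.CentFour.card_le_mul_centralizer ⊤ (a : K)
          ((E : Set K).toFinset.erase 1) fun m _ => by
            rw [Finset.mem_erase, Set.mem_toFinset]
            exact ⟨fun h => ha' (conj_eq_one_iff.1 h), hEn.conj_mem _ a.2 m⟩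
        rw [card_top, (hC _ hao).1] at h
        refine h.trans (Nat.mul_le_mul_left 4 ?_)
        rw [Finset.card_erase_of_mem (by simp), ← Set.ncard_eq_toFinset_card',
          show (E : Set K).ncard = 4 from (Nat.card_coe_set_eq _).symm.trans h4]
      have hmul := E.card_mul_index
      rw [h4] at hmul
      have h8 : ¬ 8 ∣ Nat.card K := fun h8 => by
        obtain ⟨Q, hQ⟩ := Sylow.exists_subgroup_card_pow_prime (G := K) 2 (n := 3) h8
        obtain ⟨P, hQP⟩ := (IsPGroup.of_card hQ).exists_le_sylow
        have h8P : 8 ≤ Nat.card (P : Subgroup K) := by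
          have := card_le_of_le hQP
          rw [hQ] at this
          exact this
        haveI : Nontrivial P := Finite.one_lt_card_iff_nontrivial.1 (by
          show 1 < Nat.card (P : Subgroup K)
          omega)
        haveI := P.2.center_nontrivial
        obtain ⟨z, hz⟩ := exists_prime_orderOf_dvd_card' (G := center (P : Subgroup K)) 2
          (two_dvd_card (P.2.to_subgroup _))
        have hzo : orderOf ((z : (P : Subgroup K)) : K) = 2 := by rw [Subgroup.orderOf_coe, Subgroup.orderOf_coe, hz]
        have hle : (P : Subgroup K) ≤ centralizer ({((z : (P : Subgroup K)) : K)} : Set K) := fun k hk =>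
          mem_centralizer_singleton_iff.2 (congrArg Subtype.val (mem_center_iff.1 z.2 ⟨k, hk⟩))
        have := (card_le_of_le hle).trans (hC _ hzo).1.le
        omega
      have hidx3 : E.index ≤ 3 := by omega
      interval_cases hi : E.index
      · exact absurd hi index_ne_zero_of_finite
      · omega
      · exact absurd (by omega : 8 ∣ Nat.card K) h8
      · omega
  by_cases hnc : Cfsg.HasNormalPComplement 2 K
  · left
    obtain ⟨P, N, hN, hcompl⟩ := hnc
    haveI := hN
    have hNodd : Odd (Nat.card N) := by
      exact Nat.not_even_iff_odd.1 fun h => P.not_dvd_index (by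
        rw [hcompl.index_eq_card]; exact h.two_dvd)
    have hN1 : N = ⊥ := by
      rw [eq_bot_iff]
      intro n hn
      obtain ⟨hc4, hce⟩ := hC x hx
      haveI : Nontrivial (centralizer ({x} : Set K)) := Finite.one_lt_card_iff_nontrivial.1 (by omega)
      -- all three involutions of the centralizer invert N
      have hfix : ∀ u : K, orderOf u = 2 → ∀ o ∈ N, u * o * u = o⁻¹ := fun u hu =>
        CfsgLib.CentFour.inverts_of_fpf N (by have := pow_orderOf_eq_one u; rwa [hu, sq] at this)
          fun o ho hc => CfsgLib.CentFour.eq_one_of_sq_of_odd hNodd ho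
            ((hC u hu).2 o (mem_centralizer_singleton_iff.2 hc.symm))
      obtain ⟨b, hb, hb1, hbx⟩ : ∃ b ∈ centralizer ({x} : Set K), b ≠ 1 ∧ b ≠ x := by
        by_contra hcon
        push Not at hcon
        have hsub : (centralizer ({x} : Set K) : Set K) ⊆ ({1, x} : Set K) := fun u hu => by
          by_cases h : u = 1
          · exact Or.inl h
          · exact Or.inr (hcon u hu h)
        have := (Set.ncard_le_ncard hsub).trans (Set.ncard_insert_le _ _)
        rw [show (centralizer ({x} : Set K) : Set K).ncard = 4 from (Nat.card_coe_set_eq _).symm.trans hc4,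
          Set.ncard_singleton] at this
        omega
      have hxb : orderOf (x * b) = 2 := hinv _ (hce _ (mul_mem (mem_centralizer_singleton_iff.2 rfl) hb))
        (fun h => hbx (by
          have h1 : x * x = 1 := by have := pow_orderOf_eq_one x; rwa [hx, sq] at this
          rw [← inv_eq_of_mul_eq_one_right h, inv_eq_of_mul_eq_one_right h1]))
      have h1 := hfix x hx n hn
      have h2 := hfix b (hinv _ (hce _ hb) hb1) _ (inv_mem hn)
      have h3 := hfix (x * b) hxb n hn
      have hcomm : x * b = b * x := (mem_centralizer_singleton_iff.1 hb).symm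
      have h4 : x * b * n * (x * b) = n := by
        calc x * b * n * (x * b) = b * (x * n * x) * b := by
              conv_lhs => arg 1; arg 1; rw [hcomm]
              simp only [mul_assoc]
          _ = n := by rw [h1, h2, inv_inv]
      rw [h4] at h3
      exact mem_bot.2 (CfsgLib.CentFour.eq_one_of_sq_of_odd hNodd hn (by
        rw [sq]; exact mul_eq_one_iff_eq_inv.2 h3))
    subst hN1
    have hK : IsPGroup 2 K := by
      have htop : (P : Subgroup K) = ⊤ := isComplement'_bot_left.1 hcompl
      exact (P.2.of_equiv ((MulEquiv.subgroupCongr htop).trans topEquiv))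
    haveI : Nontrivial K := ⟨⟨x, 1, fun h => by rw [h, orderOf_one] at hx; omega⟩⟩
    haveI := hK.center_nontrivial
    obtain ⟨z, hz⟩ := exists_prime_orderOf_dvd_card' (G := center K) 2 (two_dvd_card (hK.to_subgroup _))
    exact hcentral z (by rw [Subgroup.orderOf_coe, hz]) fun k => (mem_center_iff.1 z.2 k).symm
  obtain ⟨e⟩ := CfsgLib.CentFour.nonempty_iso hx (hC x hx).1 (hC x hx).2 hnc hE
  right; right
  rw [Nat.card_congr e.toEquiv, nat_card_alternatingGroup, Nat.card_fin]
  rfl

end CfsgLib.Co3U
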