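import Cfsg.Agent.Co3U.Local
import Cfsg.Agent.ZStar.Final
import Cfsg.Agent.Bender.GSide
import Cfsg.Agent.DGroup.Member

/-!
# Fusion of the involutions of `C(t)`

The conjugates of `t` in `C(t)` are `t` and the conjugates of `s`; the class of `c` never meets the class of `t`.
-/

set_option autoImplicit false
set_option linter.style.haveILetI false

namespace CfsgLib.Co3U

open Subgroup

variable {G : Type*} [Group G] {t s c y w : G}

theorem ConjIn.symm {a b : G} (h : ConjIn t a b) : ConjIn t b a := by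
  obtain ⟨g, hg, rfl⟩ := h
  exact ⟨g⁻¹, inv_mem hg, by group⟩

theorem ConjIn.trans {a b d : G} (h : ConjIn t a b) (h' : ConjIn t b d) : ConjIn t a d := by
  obtain ⟨g, hg, rfl⟩ := h
  obtain ⟨k, hk, rfl⟩ := h'
  exact ⟨k * g, mul_mem hk hg, by group⟩

theorem ConjIn.isConj {a b : G} (h : ConjIn t a b) : IsConj a b :=
  isConj_iff.2 ⟨h.choose, h.choose_spec.2⟩

theorem mem_cen {t x : G} : x ∈ centralizer ({t} : Set G) ↔ Commute x t :=
  mem_centralizer_singleton_iff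

theorem orderOf_conj (g a : G) : orderOf (g * a * g⁻¹) = orderOf a :=
  (MulAut.conj g).orderOf_eq a

theorem commute_conj {a b : G} (g : G) (h : Commute a b) : Commute (g * a * g⁻¹) (g * b * g⁻¹) :=
  h.map (MulAut.conj g).toMonoidHom

namespace Loc

variable (L : Loc t s c y w)
include L

theorem tt : t * t = 1 := by have := pow_orderOf_eq_one t; rwa [L.ord_t, sq] at this

theorem t_ne : t ≠ 1 := fun h => by have := L.ord_t; rw [h, orderOf_one] at this; omega

/-- A conjugate of `c` in `C(t)` is no square there. -/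
theorem not_sq {x : G} (h : ConjIn t c x) {k : G} (hk : Commute k t) : k * k ≠ x := by
  obtain ⟨g, hg, rfl⟩ := h
  intro e
  refine L.sq_c (g⁻¹ * k * g) (mul_mem (mul_mem (inv_mem hg) (mem_cen.2 hk)) hg) ?_
  rw [show g⁻¹ * k * g * (g⁻¹ * k * g) = g⁻¹ * (k * k) * g by group, e]
  group

/-- No conjugate of `t` is conjugate to `c` in `C(t)`. -/
theorem not_conj_c {g x : G} (hx : ConjIn t c x) : g * t * g⁻¹ ≠ x := by
  intro e
  obtain ⟨h, hh, rfl⟩ := hx
  obtain ⟨k, hk⟩ : ∃ k : G, k * t * k⁻¹ = c :=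
    ⟨h⁻¹ * g, by rw [show h⁻¹ * g * t * (h⁻¹ * g)⁻¹ = h⁻¹ * (g * t * g⁻¹) * h by group, e]; group⟩
  set c' := k⁻¹ * t * k with hc'
  have hc't : c' ∈ centralizer ({t} : Set G) := by
    rw [mem_cen, hc']
    have := commute_conj k⁻¹ L.comm_c
    rwa [← hk, show k⁻¹ * (k * t * k⁻¹) * k⁻¹⁻¹ = t by group, inv_inv] at this
  have hc'o : orderOf c' = 2 := by
    rw [hc', show k⁻¹ * t * k = k⁻¹ * t * k⁻¹⁻¹ by group, orderOf_conj, L.ord_t]
  obtain ⟨m, hm, hmc, hm2⟩ := L.sq_t_c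
  rcases L.classes c' hc't hc'o with h1 | h1 | h1
  · -- `k` centralizes `t`
    have : c = t := by
      rw [← hk]
      have h2 : t * k = k * t := by
        calc t * k = k * (k⁻¹ * t * k) := by group
          _ = k * t := by rw [← hc', h1]
      rw [← h2, mul_inv_cancel_right]
    exact L.sq_c m hm (hm2.trans this.symm)
  · obtain ⟨a, ha, hae⟩ := h1
    obtain ⟨j, hj, hjs, hj2⟩ := L.sq_s
    refine L.not_sq (x := c) ⟨1, one_mem _, by group⟩ (k := k * (a * j * a⁻¹) * k⁻¹) ?_ ?_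
    · have h1 := commute_conj a hjs
      rw [hae] at h1
      have h2 := commute_conj k h1
      rwa [hc', show k * (k⁻¹ * t * k) * k⁻¹ = t by group] at h2
    · rw [show k * (a * j * a⁻¹) * k⁻¹ * (k * (a * j * a⁻¹) * k⁻¹) = k * (a * (j * j) * a⁻¹) * k⁻¹ by
        group, hj2, (mem_cen.1 ha).eq, mul_inv_cancel_right, hk]
  · refine L.not_sq h1 (k := k⁻¹ * m * k) ?_ ?_
    · have := commute_conj k⁻¹ hmc
      rwa [← hk, show k⁻¹ * (k * t * k⁻¹) * k⁻¹⁻¹ = t by group, inv_inv] at this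
    · rw [show k⁻¹ * m * k * (k⁻¹ * m * k) = k⁻¹ * (m * m) * k by group, hm2]

theorem not_conj_of_c {x : G} (hx : ConjIn t c x) : ¬ IsConj t x := fun h => by
  obtain ⟨g, hg⟩ := isConj_iff.1 h
  exact L.not_conj_c hx hg

/-- An involution of `C(t)` not conjugate to `t` is conjugate to `c` in `C(t)`. -/
theorem c_of_not_conj (hs : IsConj t s) {x : G} (hx : x ∈ centralizer ({t} : Set G))
    (ho : orderOf x = 2) (h : ¬ IsConj t x) : ConjIn t c x := by
  rcases L.classes x hx ho with rfl | h1 | h1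
  exacts [absurd (IsConj.refl _) h, absurd (hs.trans h1.isConj) h, h1]

/-- A two-group containing a Sylow subgroup of `C(t)` with `t` as only central involution equals it. -/
theorem two_group_eq [Finite G] {T : Subgroup G} (hT : T ≤ centralizer ({t} : Set G))
    (hcard : Nat.card T = 1024)
    (hZ : ∀ x ∈ T, orderOf x = 2 → (∀ u ∈ T, Commute x u) → x = t) {P : Subgroup G}
    (hP : IsPGroup 2 P) (hTP : T ≤ P) : P = T := by
  haveI : Fact (Nat.Prime 2) := ⟨Nat.prime_two⟩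
  by_contra hne
  obtain ⟨Z, hlt, hZP, hZn⟩ :=
    CfsgLib.Bender.GSide.exists_between (lt_of_le_of_ne hTP (Ne.symm hne)) hP
  -- `t` lies in `T`
  have htT : t ∈ T := by
    haveI : Nontrivial T := Finite.one_lt_card_iff_nontrivial.1 (by omega)
    haveI := (IsPGroup.of_card (p := 2) (n := 10) hcard).center_nontrivial
    obtain ⟨z, hz⟩ := exists_prime_orderOf_dvd_card' (G := center T) 2 (by
      obtain ⟨n, hn⟩ := IsPGroup.iff_card.1
        ((IsPGroup.of_card (p := 2) (n := 10) hcard).to_subgroup (center T))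
      have := Finite.one_lt_card (α := center T)
      rw [hn] at this ⊢
      exact dvd_pow_self 2 (by rintro rfl; simp at this))
    have hzo : orderOf ((z : T) : G) = 2 := by rw [Subgroup.orderOf_coe, Subgroup.orderOf_coe, hz]
    exact hZ _ z.1.2 hzo (fun u hu => (congrArg Subtype.val (mem_center_iff.1 z.2 ⟨u, hu⟩)).symm) ▸ z.1.2
  have hle : Z ≤ centralizer ({t} : Set G) := fun g hg => by
    have hn := hZn hg
    have hconj : ∀ u ∈ T, g * u * g⁻¹ ∈ T := fun u hu => (mem_normalizer_iff.1 hn u).1 hu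
    have h1 : g * t * g⁻¹ = t := hZ _ (hconj t htT) (by rw [orderOf_conj, L.ord_t]) fun u hu => by
      have hu' : g⁻¹ * u * g ∈ T := (mem_normalizer_iff.1 hn _).2 (by
        rwa [show g * (g⁻¹ * u * g) * g⁻¹ = u by group])
      have := commute_conj g ((mem_cen.1 (hT hu')).symm)
      rwa [show g * (g⁻¹ * u * g) * g⁻¹ = u by group] at this
    exact mem_cen.2 (mul_inv_eq_iff_eq_mul.1 h1)
  obtain ⟨n, hn⟩ := IsPGroup.iff_card.1 (hP.to_le hZP)
  have hdvd : 2 ^ n ∣ 2903040 := hn ▸ L.card_cent ▸ card_dvd_of_le hle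
  have hgt : 1024 < 2 ^ n := by
    rw [← hn, ← hcard]
    exact lt_of_le_of_ne (card_le_of_le hlt.le) fun e => hlt.ne (eq_of_le_of_card_ge hlt.le e.ge)
  have h11 : 11 ≤ n := by
    by_contra h
    have : 2 ^ n ≤ 2 ^ 10 := Nat.pow_le_pow_right two_pos (by omega)
    omega
  have := (pow_dvd_pow 2 h11).trans hdvd
  norm_num at this

/-- An involution of a subgroup containing `C(t)` is conjugate in it into `C(t)`. -/
theorem exists_conj_into [Finite G] {G0 : Subgroup G} (hle : centralizer ({t} : Set G) ≤ G0) {x : G}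
    (hx : x ∈ G0) (hxx : x * x = 1) : ∃ g ∈ G0, g * x * g⁻¹ ∈ centralizer ({t} : Set G) := by
  haveI : Fact (Nat.Prime 2) := ⟨Nat.prime_two⟩
  obtain ⟨T, hT, hcard, hZ⟩ := L.sylow
  have hTp : IsPGroup 2 T := IsPGroup.of_card (n := 10) hcard
  obtain ⟨P, hTP⟩ := (hTp.comap_subtype (K := G0)).exists_le_sylow
  have hPT : (P : Subgroup G0).map G0.subtype = T :=
    L.two_group_eq hT hcard hZ (P.2.map _) fun u hu => ⟨⟨u, hle (hT hu)⟩, hTP hu, rfl⟩
  obtain ⟨Q, hQ⟩ := (show IsPGroup 2 (zpowers (⟨x, hx⟩ : G0)) from fun z => by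
    obtain ⟨z, hz⟩ := z
    obtain ⟨k, rfl⟩ := mem_zpowers_iff.1 hz
    refine ⟨1, Subtype.ext ?_⟩
    show ((⟨x, hx⟩ : G0) ^ k) ^ (2 ^ 1) = 1
    rw [pow_one, ← zpow_natCast, ← zpow_mul, mul_comm, zpow_mul,
      show (⟨x, hx⟩ : G0) ^ ((2 : ℕ) : ℤ) = 1 by rw [zpow_natCast, sq]; exact Subtype.ext hxx,
      one_zpow]).exists_le_sylow
  obtain ⟨g, hg⟩ := MulAction.exists_smul_eq G0 Q P
  refine ⟨g, g.2, hT ?_⟩
  rw [← hPT]
  refine ⟨g * ⟨x, hx⟩ * g⁻¹, ?_, rfl⟩
  rw [← hg]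
  exact ⟨⟨x, hx⟩, hQ (mem_zpowers _), rfl⟩

/-- **Fusion**: `t` is conjugate to `s`. -/
theorem exists_fused [Finite G] (hO : Cfsg.oddCore G = ⊥) (hZ : center G = ⊥) :
    ∃ g : G, g * t * g⁻¹ = s := by
  haveI : Fact (Nat.Prime 2) := ⟨Nat.prime_two⟩
  by_contra hcon
  obtain ⟨T, hT, hcard, hTZ⟩ := L.sylow
  obtain ⟨P, hTP⟩ := (IsPGroup.of_card (n := 10) hcard : IsPGroup 2 T).exists_le_sylow
  have hPT := L.two_group_eq hT hcard hTZ P.2 hTP
  obtain ⟨N, hN, hNo, hcomm⟩ := CfsgLib.ZStar.zstar_of_sylow P L.ord_t fun g hg => by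
    rcases L.classes _ (hT (hPT.le hg)) (by rw [orderOf_conj, L.ord_t]) with h | ⟨a, ha, hae⟩ | h
    · exact h
    · exact absurd ⟨a⁻¹ * g, by rw [show a⁻¹ * g * t * (a⁻¹ * g)⁻¹ = a⁻¹ * (g * t * g⁻¹) * a by group, ← hae]; group⟩ hcon
    · exact absurd rfl (L.not_conj_c h (g := g))
  have hNb : N = ⊥ := le_bot_iff.1 (hO ▸ CfsgLib.DGroup.le_oddCore hN hNo)
  refine L.t_ne (mem_bot.1 (hZ ▸ mem_center_iff.2 fun g => ?_))
  have h := hcomm g
  rw [hNb, mem_bot] at h
  have h2 : t * g * t⁻¹ = g := mul_inv_eq_one.1 h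
  calc g * t = t * g * t⁻¹ * t := by rw [h2]
    _ = t * g := by group

end Loc

end CfsgLib.Co3U
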