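import Cfsg.Agent.Co3U.ModelData

/-!
# The finite checks on the matrix double cover of `Sp₆(2)`
-/

set_option autoImplicit false
set_option maxRecDepth 100000

namespace CfsgLib.Co3U.Check

open CfsgLib.Co3U.Mat CfsgLib.Co3U.Data

/-- The central involution. -/
def neg1 : St := (one.2, one.1)

/-- The element of a word. -/
def el (w : List ℕ) : St := evW gens w

/-- The inverse word. -/
def winv (w : List ℕ) : List ℕ := w.reverse.map fun i => bif Nat.blt i 6 then i + 6 else bif Nat.blt i 12 then i - 6 else i

/-- Conjugation of `x` by the element of a word. -/
def conjW (x : St) (w : List ℕ) : St := mul (mul (el w) x) (el (winv w))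

/-- Equality of matrices. -/
def eqS (A B : St) : Bool := Nat.beq (key A) (key B)

/-- Commuting. -/
def commS (A B : St) : Bool := eqS (mul A B) (mul B A)

/-- `s`. -/
def sS : St := el wordS

/-- `c`. -/
def sC : St := el wordC

/-- `y`. -/
def sY : St := el wordY

/-- `w`. -/
def sW : St := el wordW

/-- A fourth generator of the elementary subgroup, moved by `w`. -/
def sB : St := el wordB

/-- One step in the class of `s`. -/
def stepS (S : St) (i : ℕ) : St := mul (mul (gens.getD (i % 6) one) S) (gens.getD (i % 6 + 6) one)

/-- One step in a subgroup. -/
def stepMul (gs : List St) (S : St) (i : ℕ) : St := mul S (gs.getD i one)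

/-- One step in a class of a subgroup given by words. -/
def stepConj (ws : List (List ℕ)) (S : St) (i : ℕ) : St := conjW S (ws.getD i [])

/-- The class of `s`. -/
def bstS : Bst := reach stepS sS (decode treeS sizeS)

/-- Generators of the centralizer of `c`. -/
def gensK : List St := wordsK.map el

/-- Generators of a Sylow two-subgroup. -/
def gensT : List St := wordsT.map el

/-- Generators of the elementary subgroup. -/
def gensA : List St := [sC, sY, el wordA, sB]

/-- The centralizer of `c`. -/
def bstK : Bst := reach (stepMul gensK) one (decode treeK sizeK)

/-- The Sylow two-subgroup. -/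
def bstT : Bst := reach (stepMul gensT) one (decode treeT sizeT)

/-- The elementary subgroup. -/
def bstA : Bst := reach (stepMul gensA) one (decode treeA sizeA)

/-- The orbit of `y` under the centralizer of `c`. -/
def bstP : Bst := reach (stepConj wordsK) sY (decode treeP sizeP)

/-- Conjugates of `c`. -/
def bstPool : Bst := (pool.map fun w => key (conjW sC w)).foldl (fun b k => b.ins k) Bst.leaf

/-- Conjugates of `c` commuting with `s`. -/
def bstF : Bst := (wordsF.map fun w => key (conjW sC w)).foldl (fun b k => b.ins k) Bst.leaf

/-- Strictly increasing and of the given length. -/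
def sized (b : Bst) (n : ℕ) : Bool := incB b.toList && Nat.beq b.toList.length n

/-- Closed under the generators. -/
def closedB (b : Bst) (gs : List St) : Bool :=
  b.has (key one) && b.toList.all fun k => gs.all fun g => b.has (key (mul (unkey k) g))

/-- The class of `s` is closed under one generator and its centralizer meets `C(c)` thirty times. -/
def classOK (i : ℕ) : Bool := bstS.toList.all fun k => bstS.has (key (stepS (unkey k) i))

/-- The class of `s`. -/
def checkS : Bool :=
  bstS.has (key sS) && sized bstS 630 && Nat.beq (bstS.toList.filter fun k => commS (unkey k) sC).length 30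

/-- The conjugates of `c` commuting with `s`. -/
def checkF : Bool :=
  sized bstF 181 && bstF.toList.all fun k => commS (unkey k) sS

/-- Whether an element is `1`, `-1` or in the class of `s`. -/
def trivOrS (S : St) : Bool := eqS S one || eqS S neg1 || bstS.has (key S)

/-- An involution of the Sylow subgroup is classified and not central unless it is `-1`. -/
def invOK (S : St) : Bool :=
  if eqS (mul S S) one then
    (trivOrS S || bstPool.has (key S)) && (eqS S one || eqS S neg1 || gensT.any fun g => !(commS S g))
  else true

/-- The Sylow two-subgroup. -/
def checkT : Bool := sized bstT 1024 && closedB bstT gensT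

/-- Its involutions. -/
def checkTInv : Bool := bstT.toList.all fun k => invOK (unkey k)

/-- A commuting involution pairing with `c` is trivial or conjugate to `y` or `c y` over `C(c)`. -/
def pairOK (S : St) : Bool :=
  if eqS (mul S S) one then
    trivOrS S || trivOrS (mul sC S) || bstP.has (key S) || bstP.has (key (mul sC S))
  else true

/-- The centralizer of `c`. -/
def checkK : Bool :=
  sized bstK 384 && closedB bstK gensK && gensK.all (fun g => commS g sC) &&
    bstK.toList.all (fun k => pairOK (unkey k) && !(eqS (mul (unkey k) (unkey k)) sC)) &&
    Nat.beq (bstK.toList.filter fun k => commS (unkey k) sY).length 32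

/-- Whether an element is `-1` or in the class of `s`. -/
def isD (S : St) : Bool := eqS S neg1 || bstS.has (key S)

/-- A coset modulo the pair holds exactly one conjugate of `-1` or of `s`. -/
def cosetOK (S : St) : Bool :=
  eqS S one || eqS S sC || eqS S sY || eqS S (mul sC sY) ||
    Nat.beq ([S, mul sC S, mul sY S, mul (mul sC sY) S].filter isD).length 1

/-- The elementary subgroup. -/
def checkA : Bool :=
  sized bstA 16 && closedB bstA gensA && bstA.has (key neg1) && !(bstA.has (key sW)) &&
    gensA.all (fun g => commS g sC && commS g sY && eqS (mul g g) one && gensA.all fun h => commS g h) &&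
    bstA.toList.all (fun k => cosetOK (unkey k)) &&
    [neg1, mul sC neg1, mul sY neg1, mul (mul sC sY) neg1].any (eqS (mul (mul sW sB) (mul sW sB)))

/-- Single elements. -/
def checkPts : Bool :=
  gens.all okB && commS sS (el wordKs) && eqS (mul (el wordKs) (el wordKs)) neg1 &&
    commS sC (el wordKc) && eqS (mul (el wordKc) (el wordKc)) neg1 && eqS (mul (el wordKss) (el wordKss)) sS &&
    eqS (mul sS sS) one && !(eqS sS one) && eqS (mul sC sC) one && !(eqS sC one) &&
    eqS (mul sY sY) one && !(eqS sY one) && eqS (mul sW sW) one && !(eqS sW one) &&
    commS sC sY && commS sW sC && commS sW sY &&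
    bstPool.has (key sY) && bstPool.has (key (mul sC sY)) && bstPool.has (key sW) &&
    bstPool.has (key (mul sC sW)) && bstPool.has (key (mul sY sW)) && bstPool.has (key (mul (mul sC sY) sW))

theorem checkS_eq : checkS = true := by decide +kernel

theorem class0 : classOK 0 = true := by decide +kernel

theorem class1 : classOK 1 = true := by decide +kernel

theorem class2 : classOK 2 = true := by decide +kernel

theorem class3 : classOK 3 = true := by decide +kernel

theorem class4 : classOK 4 = true := by decide +kernel

theorem class5 : classOK 5 = true := by decide +kernel

theorem checkF_eq : checkF = true := by decide +kernel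

theorem checkT_eq : checkT = true := by decide +kernel

theorem checkTInv_eq : checkTInv = true := by decide +kernel

theorem checkK_eq : checkK = true := by decide +kernel

theorem checkA_eq : checkA = true := by decide +kernel

theorem checkPts_eq : checkPts = true := by decide +kernel

end CfsgLib.Co3U.Check
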