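import Cfsg.Agent.Co3U.Cover
import Cfsg.Agent.Co3U.ModelCheck

/-!
# What the checks say about the matrix double cover of `Sp₆(2)`
-/

set_option autoImplicit false
set_option linter.style.haveILetI false
set_option maxRecDepth 100000

namespace CfsgLib.Co3U.Facts

open Subgroup CfsgLib.Co3U.Mat CfsgLib.Co3U.Data CfsgLib.Co3U.Check
open CfsgLib.SpSixMult (X mat)

theorem blt_false {a b : ℕ} (h : ¬ a < b) : Nat.blt a b = false := by
  rw [← Bool.not_eq_true, Nat.blt_eq]; exact h

theorem blt_true {a b : ℕ} (h : a < b) : Nat.blt a b = true := by rw [Nat.blt_eq]; exact h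

/-- The ambient group. -/
abbrev M8 : Type := GL (Fin 8) (ZMod 3)

/-- The generators. -/
def g6 (m : ℕ) : M8 := if h : m < 6 then X 0 * X (⟨m, h⟩ : Fin 6).succ else 1

/-- The letters. -/
def letter (n : ℕ) : M8 := if n < 6 then g6 n else (g6 (n - 6))⁻¹

theorem letter_mem (n : ℕ) : letter n ∈ Gam := by
  have h : ∀ m, g6 m ∈ Gam := fun m => by
    unfold g6; split_ifs with hm
    exacts [subset_closure ⟨⟨m, hm⟩, rfl⟩, one_mem _]
  unfold letter; split_ifs
  exacts [h _, inv_mem (h _)]

theorem gens_ok : ∀ i : Fin 6, toM (gens.getD (i : ℕ) one) = mat 0 * mat i.succ ∧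
    toM (gens.getD ((i : ℕ) + 6) one) = -mat i.succ * -mat 0 := by decide +kernel

theorem gens_okB : ∀ n, okB (gens.getD n one) = true := by
  intro n
  have h := checkPts_eq
  simp only [checkPts, Bool.and_eq_true] at h
  have hall : gens.all okB = true := by tauto
  rw [List.all_eq_true] at hall
  by_cases hn : n < gens.length
  · rw [List.getD_eq_getElem _ _ hn]; exact hall _ (List.getElem_mem hn)
  · rw [List.getD_eq_default _ _ (by omega)]; decide

theorem rep_letter (n : ℕ) : Rep (gens.getD n one) (letter n) := by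
  refine ⟨ok_of_okB (gens_okB n), ?_⟩
  unfold letter g6
  split_ifs with h1 h2
  · exact (gens_ok ⟨n, h1⟩).1
  · have h := (gens_ok ⟨n - 6, h2⟩).2
    simp only [show n - 6 + 6 = n by omega] at h
    rw [h, mul_inv_rev]
    rfl
  · rw [List.getD_eq_default _ _ (by simp [gens]; omega), inv_one]
    exact rep_one.2

/-- The group element of a word. -/
def gw (w : List ℕ) : M8 := (w.map letter).prod

theorem gw_mem (w : List ℕ) : gw w ∈ Gam :=
  list_prod_mem fun x hx => by obtain ⟨n, -, rfl⟩ := List.mem_map.1 hx; exact letter_mem n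

theorem rep_el (w : List ℕ) : Rep (el w) (gw w) := by
  have : ∀ (w : List ℕ) (S : St) (g : M8), Rep S g →
      Rep (w.foldl (fun S i => Mat.mul S (gens.getD i one)) S) (g * (w.map letter).prod) := by
    intro w
    induction w with
    | nil => intro S g h; simpa using h
    | cons i w ih =>
      intro S g h
      rw [List.map_cons, List.prod_cons, ← mul_assoc]
      exact ih _ _ (h.mul (rep_letter i))
  have h := this w one 1 rep_one
  rwa [one_mul] at h

theorem letter_flip (n : ℕ) :
    letter (bif Nat.blt n 6 then n + 6 else bif Nat.blt n 12 then n - 6 else n) = (letter n)⁻¹ := by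
  unfold letter
  by_cases h1 : n < 6
  · rw [blt_true h1, cond_true, if_neg (by omega), if_pos h1,
      show n + 6 - 6 = n by omega]
  · rw [blt_false h1, cond_false, if_neg h1, inv_inv]
    by_cases h2 : n < 12
    · rw [blt_true h2, cond_true, if_pos (by omega)]
    · rw [blt_false h2, cond_false, if_neg h1]
      unfold g6
      rw [dif_neg (by omega), inv_one]

theorem gw_winv (w : List ℕ) : gw (winv w) = (gw w)⁻¹ := by
  rw [gw, gw, winv, List.prod_inv_reverse, List.map_map, List.map_map, ← List.map_reverse]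
  exact congrArg List.prod (List.map_congr_left fun n _ => letter_flip n)

theorem rep_conjW {S : St} {g : M8} (h : Rep S g) (w : List ℕ) :
    Rep (conjW S w) (gw w * g * (gw w)⁻¹) := by
  have := ((rep_el w).mul h).mul (rep_el (winv w))
  rwa [gw_winv] at this

theorem rep_neg1 : Rep neg1 (-1) := by
  refine ⟨ok_of_okB (by decide), ?_⟩
  rw [Units.val_neg, Units.val_one]
  decide +kernel

theorem eq_of_eqS {S T : St} {g h : M8} (hS : Rep S g) (hT : Rep T h) (e : eqS S T = true) : g = h := by
  have e' : key S = key T := Nat.eq_of_beq_eq_true e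
  have : S = T := by rw [← unkey_key hS.1, e', unkey_key hT.1]
  exact hS.inj (this ▸ hT)

theorem eqS_of_eq {S T : St} {g h : M8} (hS : Rep S g) (hT : Rep T h) (e : g = h) : eqS S T = true := by
  subst e
  rw [hS.unique hT]
  exact Nat.beq_refl _

theorem eqS_iff {S T : St} {g h : M8} (hS : Rep S g) (hT : Rep T h) : eqS S T = true ↔ g = h :=
  ⟨eq_of_eqS hS hT, eqS_of_eq hS hT⟩

theorem commS_iff {S T : St} {g h : M8} (hS : Rep S g) (hT : Rep T h) : commS S T = true ↔ Commute g h :=
  eqS_iff (hS.mul hT) (hT.mul hS)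

/-- The conjugation relation in the double cover. -/
def CG (a b : M8) : Prop := ∃ g ∈ Gam, g * a * g⁻¹ = b

theorem CG.refl (a : M8) : CG a a := ⟨1, one_mem _, by group⟩

theorem CG.trans {a b d : M8} (h : CG a b) (h' : CG b d) : CG a d := by
  obtain ⟨g, hg, rfl⟩ := h
  obtain ⟨k, hk, rfl⟩ := h'
  exact ⟨k * g, mul_mem hk hg, by group⟩

theorem CG.symm {a b : M8} (h : CG a b) : CG b a := by
  obtain ⟨g, hg, rfl⟩ := h
  exact ⟨g⁻¹, inv_mem hg, by group⟩

/-- An element listed in a tree. -/
def In (b : Bst) (g : M8) : Prop := ∃ k ∈ b.toList, Rep (unkey k) g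

theorem In.has {b : Bst} (hb : incB b.toList = true) {g : M8} (h : In b g) {S : St} (hS : Rep S g) :
    b.has (key S) = true := by
  have hcomplete : ∀ {b : Bst}, b.toList.Pairwise (· < ·) → ∀ {x}, x ∈ b.toList → b.has x = true := by
    intro b
    induction b with
    | leaf => intro _ x hx; simp [Bst.toList] at hx
    | node l k r ihl ihr =>
      intro hp x hx
      simp only [Bst.toList, List.pairwise_append, List.pairwise_cons, List.mem_cons] at hp
      obtain ⟨hl, ⟨hk, hr⟩, hlr⟩ := hp
      simp only [Bst.toList, List.mem_append, List.mem_cons] at hx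
      simp only [Bst.has]
      rcases hx with hx | rfl | hx
      · rw [blt_true (hlr x hx k (Or.inl rfl)), cond_true]
        exact ihl hl hx
      · rw [blt_false (Nat.lt_irrefl x), cond_false, cond_false]
        exact Nat.beq_refl x
      · have := hk x hx
        rw [blt_false (Nat.lt_asymm this), blt_true this, cond_false, cond_true]
        exact ihr hr hx
  obtain ⟨k, hk, hkg⟩ := h
  have : key S = k := by
    rw [← hkg.unique hS, key, unkey]
    exact Nat.div_add_mod' k _
  rw [this]
  exact hcomplete (nodup_of_incB hb) hk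

theorem In.of_has {b : Bst} {g : M8} {S : St} (hS : Rep S g) (h : b.has (key S) = true) : In b g :=
  ⟨key S, Bst.mem_of_has h, by rwa [unkey_key hS.1]⟩

/-- The elements of a reached tree. -/
theorem reach_in {f : St → ℕ → St} {P : M8 → Prop}
    (hf : ∀ S i g, Rep S g → P g → ∃ h, Rep (f S i) h ∧ P h) {root : St} {g0 : M8} (hr : Rep root g0)
    (hP : P g0) {l : List ℕ} {x : ℕ} (hx : x ∈ (reach f root l).toList) :
    ∃ g, Rep (unkey x) g ∧ P g := by
  obtain ⟨S, ⟨g, hS, hg⟩, rfl⟩ := reach_spec (Q := fun S => ∃ g, Rep S g ∧ P g)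
    (fun S i ⟨g, hS, hg⟩ => hf S i g hS hg) ⟨g0, hr, hP⟩ hx
  exact ⟨g, by rwa [unkey_key hS.1], hg⟩

theorem card_in {b : Bst} (hb : incB b.toList = true) (hrep : ∀ k ∈ b.toList, ∃ g, Rep (unkey k) g)
    (p : ℕ → Bool) : Nat.card {g : M8 // ∃ k ∈ b.toList, p k = true ∧ Rep (unkey k) g} =
      (b.toList.filter p).length := by
  classical
  have hnd : (b.toList.filter p).Nodup :=
    ((nodup_of_incB hb).imp fun h => Nat.ne_of_lt h).filter _
  choose f hf using hrep
  let F : {k // k ∈ b.toList.filter p} → {g : M8 // ∃ k ∈ b.toList, p k = true ∧ Rep (unkey k) g} :=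
    fun k => ⟨f k.1 (List.mem_filter.1 k.2).1, k.1, (List.mem_filter.1 k.2).1, (List.mem_filter.1 k.2).2, hf _ _⟩
  have hF : Function.Bijective F := by
    constructor
    · rintro ⟨k, hk⟩ ⟨k', hk'⟩ e
      have e' : f k (List.mem_filter.1 hk).1 = f k' (List.mem_filter.1 hk').1 := congrArg Subtype.val e
      have e2 := (hf k (List.mem_filter.1 hk).1).unique (e'.symm ▸ hf k' (List.mem_filter.1 hk').1)
      refine Subtype.ext ?_
      have := congrArg key e2
      simpa [key, unkey, Nat.div_add_mod'] using this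
    · rintro ⟨g, k, hk, hp, hg⟩
      exact ⟨⟨k, List.mem_filter.2 ⟨hk, hp⟩⟩, Subtype.ext ((hf k hk).inj hg)⟩
  rw [← Nat.card_congr (Equiv.ofBijective F hF), ← Nat.card_congr (hnd.getEquiv _), Nat.card_fin]

theorem sized_spec {b : Bst} {n : ℕ} (h : sized b n = true) :
    incB b.toList = true ∧ b.toList.length = n := by
  simp only [sized, Bool.and_eq_true] at h
  exact ⟨h.1, Nat.eq_of_beq_eq_true h.2⟩

/-- A stable finite set is stable under inverses. -/
theorem stable_inv {L : Set M8} (hfin : L.Finite) {f : M8 → M8} (hf : Function.Injective f)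
    (h : ∀ x ∈ L, f x ∈ L) {y : M8} (hy : y ∈ L) : ∃ x ∈ L, f x = y :=
  ((hfin.injOn_iff_bijOn_of_mapsTo h).1 hf.injOn).surjOn hy

/-- The subgroup generated by listed matrices. -/
theorem span {gs : List St} {H : Subgroup M8} (gG : List M8) (hlen : gG.length = gs.length)
    (hrep : ∀ i, Rep (gs.getD i one) (gG.getD i 1)) (hH : H = Subgroup.closure {g | g ∈ gG}) {codes : List ℕ} {n : ℕ}
    (hs : sized (reach (stepMul gs) one codes) n = true)
    (hc : closedB (reach (stepMul gs) one codes) gs = true) :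
    (∀ g, g ∈ H ↔ In (reach (stepMul gs) one codes) g) ∧ Nat.card H = n := by
  classical
  set b := reach (stepMul gs) one codes with hb
  obtain ⟨hinc, hn⟩ := sized_spec hs
  simp only [closedB, Bool.and_eq_true, List.all_eq_true] at hc
  have hgH : ∀ i, gG.getD i 1 ∈ H := fun i => by
    rw [hH]
    by_cases hi : i < gG.length
    · rw [List.getD_eq_getElem _ _ hi]
      exact subset_closure (List.getElem_mem hi)
    · rw [List.getD_eq_default _ _ (by omega)]; exact one_mem _
  have hin : ∀ k ∈ b.toList, ∃ g, Rep (unkey k) g ∧ g ∈ H := fun k hk =>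
    reach_in (P := (· ∈ H)) (fun S i g hS hg => ⟨g * gG.getD i 1, hS.mul (hrep i), mul_mem hg (hgH i)⟩)
      rep_one (one_mem _) hk
  have hstep : ∀ x : M8, In b x → ∀ g ∈ gG, In b (x * g) := by
    rintro x ⟨k, hk, hx⟩ g hg
    obtain ⟨i, hi, rfl⟩ := List.getElem_of_mem hg
    have hi' : i < gs.length := hlen ▸ hi
    have h1 := hrep i
    rw [List.getD_eq_getElem _ _ hi', List.getD_eq_getElem _ _ hi] at h1
    exact In.of_has (hx.mul h1) (hc.2 k hk _ (List.getElem_mem hi'))
  let Stab : Subgroup M8 :=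
    { carrier := {g | ∀ x, In b x → In b (x * g)}
      one_mem' := fun x hx => by rwa [mul_one]
      mul_mem' := fun {g g'} hg hg' x hx => by rw [← mul_assoc]; exact hg' _ (hg x hx)
      inv_mem' := fun {g} hg x hx => by
        obtain ⟨x', hx', e⟩ := stable_inv (L := {x | In b x}) (Set.toFinite _)
          (f := fun z => z * g) (mul_left_injective g) (fun z hz => hg z hz) (y := x) hx
        rwa [← show x' * g = x from e, mul_inv_cancel_right] }
  have hHS : H ≤ Stab := by
    rw [hH, closure_le]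
    exact fun g hg x hx => hstep x hx g hg
  have hiff : ∀ g, g ∈ H ↔ In b g := fun g => ⟨fun hg => by
      have := hHS hg 1 (In.of_has rep_one hc.1)
      rwa [one_mul] at this,
    fun ⟨k, hk, hg⟩ => by
      obtain ⟨g', hg', hgH'⟩ := hin k hk
      rwa [hg.inj hg']⟩
  refine ⟨hiff, ?_⟩
  have := card_in hinc (fun k hk => ⟨_, (hin k hk).choose_spec.1⟩) (fun _ => true)
  rw [List.filter_true, hn] at this
  rw [← this]
  exact Nat.card_congr (Equiv.subtypeEquivRight fun g => (hiff g).trans
    ⟨fun ⟨k, hk, h⟩ => ⟨k, hk, rfl, h⟩, fun ⟨k, hk, _, h⟩ => ⟨k, hk, h⟩⟩)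

/-- `s`. -/
def gS : M8 := gw wordS

/-- `c`. -/
def gC : M8 := gw wordC

/-- `y`. -/
def gY : M8 := gw wordY

/-- `w`. -/
def gW : M8 := gw wordW

/-- The generator of the elementary subgroup moved by `w`. -/
def gB : M8 := gw wordB

theorem rS : Rep sS gS := rep_el _

theorem rC : Rep sC gC := rep_el _

theorem rY : Rep sY gY := rep_el _

theorem rW : Rep sW gW := rep_el _

theorem rB : Rep sB gB := rep_el _

/-- The class of `s` is the list. -/
theorem class_s : incB bstS.toList = true ∧ ∀ x, CG gS x ↔ In bstS x := by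
  have h0 := checkS_eq
  simp only [checkS, Bool.and_eq_true] at h0
  obtain ⟨⟨hroot, hsz⟩, -⟩ := h0
  refine ⟨(sized_spec hsz).1, fun x => ⟨?_, ?_⟩⟩
  · rintro ⟨g, hg, rfl⟩
    let Stab : Subgroup M8 :=
      { carrier := {g | ∀ x, In bstS x → In bstS (g * x * g⁻¹)}
        one_mem' := fun x hx => by rwa [one_mul, inv_one, mul_one]
        mul_mem' := fun {g g'} hg hg' x hx => by
          rw [show g * g' * x * (g * g')⁻¹ = g * (g' * x * g'⁻¹) * g⁻¹ by group]
          exact hg _ (hg' x hx)
        inv_mem' := fun {g} hg x hx => by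
          obtain ⟨x', hx', e⟩ := stable_inv (L := {x | In bstS x}) (Set.toFinite _)
            (f := fun z => g * z * g⁻¹) (fun a b h => mul_left_cancel (mul_right_cancel h))
            (fun z hz => hg z hz) (y := x) hx
          rw [← show g * x' * g⁻¹ = x from e, show g⁻¹ * (g * x' * g⁻¹) * g⁻¹⁻¹ = x' by group]
          exact hx' }
    refine (show Gam ≤ Stab from (closure_le _).2 ?_) hg gS (In.of_has rS hroot)
    rintro _ ⟨i, rfl⟩ x ⟨k, hk, hx⟩
    have hall : ∀ i : Fin 6, classOK i = true := by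
      intro i; fin_cases i
      exacts [class0, class1, class2, class3, class4, class5]
    have h := List.all_eq_true.1 (hall i) k hk
    have e1 : letter (i : ℕ) = X 0 * X i.succ := by
      rw [letter, if_pos i.2, g6, dif_pos i.2]
    have e2 : letter ((i : ℕ) + 6) = (X 0 * X i.succ)⁻¹ := by
      rw [letter, if_neg (by omega), show (i : ℕ) + 6 - 6 = i by omega, g6, dif_pos i.2]
    have hr := ((rep_letter (i : ℕ)).mul hx).mul (rep_letter ((i : ℕ) + 6))
    rw [e1, e2] at hr
    refine In.of_has hr ?_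
    rw [stepS, Nat.mod_eq_of_lt i.2] at h
    exact h
  · rintro ⟨k, hk, hx⟩
    obtain ⟨g, hg, hP⟩ := reach_in (P := CG gS) (fun S i g hS hg => ⟨_,
      ((rep_letter (i % 6)).mul hS).mul (rep_letter (i % 6 + 6)), hg.trans ⟨letter (i % 6), letter_mem _, by
        rw [show letter (i % 6 + 6) = (letter (i % 6))⁻¹ from ?_]
        rw [letter, if_neg (by omega), letter, if_pos (Nat.mod_lt _ (by norm_num)),
          show i % 6 + 6 - 6 = i % 6 by omega]⟩⟩) rS (CG.refl _) hk
    rwa [hx.inj hg]

theorem rep_of_in_s {k : ℕ} (hk : k ∈ bstS.toList) : ∃ g, Rep (unkey k) g ∧ CG gS g :=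
  reach_in (P := CG gS) (fun S i g hS hg => ⟨_,
    ((rep_letter (i % 6)).mul hS).mul (rep_letter (i % 6 + 6)), hg.trans ⟨letter (i % 6), letter_mem _, by
      rw [show letter (i % 6 + 6) = (letter (i % 6))⁻¹ from ?_]
      rw [letter, if_neg (by omega), letter, if_pos (Nat.mod_lt _ (by norm_num)),
        show i % 6 + 6 - 6 = i % 6 by omega]⟩⟩) rS (CG.refl _) hk

/-- The class of `s` has 630 elements, thirty of them commuting with `c`. -/
theorem card_class_s : Nat.card {x // CG gS x} = 630 ∧ Nat.card {x // CG gS x ∧ Commute x gC} = 30 := by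
  obtain ⟨hinc, hiff⟩ := class_s
  have h0 := checkS_eq
  simp only [checkS, Bool.and_eq_true] at h0
  obtain ⟨⟨-, hsz⟩, h30⟩ := h0
  have hrep : ∀ k ∈ bstS.toList, ∃ g, Rep (unkey k) g := fun k hk =>
    ⟨_, (rep_of_in_s hk).choose_spec.1⟩
  refine ⟨?_, ?_⟩
  · have := card_in hinc hrep (fun _ => true)
    rw [List.filter_true, (sized_spec hsz).2] at this
    rw [← this]
    exact Nat.card_congr (Equiv.subtypeEquivRight fun g => (hiff g).trans
      ⟨fun ⟨k, hk, h⟩ => ⟨k, hk, rfl, h⟩, fun ⟨k, hk, _, h⟩ => ⟨k, hk, h⟩⟩)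
  · have := card_in hinc hrep (fun k => commS (unkey k) sC)
    rw [Nat.eq_of_beq_eq_true h30] at this
    rw [← this]
    exact Nat.card_congr (Equiv.subtypeEquivRight fun g =>
      ⟨fun ⟨hg, hc⟩ => by
        obtain ⟨k, hk, h⟩ := (hiff g).1 hg
        exact ⟨k, hk, (commS_iff h rC).2 hc, h⟩,
      fun ⟨k, hk, hc, h⟩ => ⟨(hiff g).2 ⟨k, hk, h⟩, (commS_iff h rC).1 hc⟩⟩)

end CfsgLib.Co3U.Facts
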