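import Cfsg.Agent.Co3U.Local
import Cfsg.Agent.Co3U.Fusion
import Cfsg.Agent.Co3U.ModelFacts
import Mathlib.Combinatorics.Enumerative.DoubleCounting

/-!
# The local facts hold in a centralizer isomorphic to a non-split double cover of `Sp₆(2)`
-/

set_option autoImplicit false
set_option linter.style.haveILetI false
set_option maxRecDepth 100000

namespace CfsgLib.Co3U.LocalModel

open Subgroup CfsgLib.Co3U.Mat CfsgLib.Co3U.Data CfsgLib.Co3U.Check CfsgLib.Co3U.Facts

theorem pts : ((commS sS (el wordKs) = true ∧ eqS (Mat.mul (el wordKs) (el wordKs)) neg1 = true) ∧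
    (commS sC (el wordKc) = true ∧ eqS (Mat.mul (el wordKc) (el wordKc)) neg1 = true) ∧
    eqS (Mat.mul (el wordKss) (el wordKss)) sS = true) ∧
    ((eqS (Mat.mul sS sS) one = true ∧ eqS sS one = false) ∧ (eqS (Mat.mul sC sC) one = true ∧ eqS sC one = false) ∧
      (eqS (Mat.mul sY sY) one = true ∧ eqS sY one = false) ∧ eqS (Mat.mul sW sW) one = true ∧ eqS sW one = false) ∧
    (commS sC sY = true ∧ commS sW sC = true ∧ commS sW sY = true) ∧
    (bstPool.has (key sY) = true ∧ bstPool.has (key (Mat.mul sC sY)) = true ∧ bstPool.has (key sW) = true ∧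
      bstPool.has (key (Mat.mul sC sW)) = true ∧ bstPool.has (key (Mat.mul sY sW)) = true ∧
      bstPool.has (key (Mat.mul (Mat.mul sC sY) sW)) = true) := by
  have h := checkPts_eq
  simp only [checkPts, Bool.and_eq_true, Bool.not_eq_true', and_assoc] at h ⊢
  exact h.2

theorem CG.mem {a b : M8} (h : CG a b) (ha : a ∈ Gam) : b ∈ Gam := by
  obtain ⟨g, hg, rfl⟩ := h
  exact mul_mem (mul_mem hg ha) (inv_mem hg)

theorem mem_foldl : ∀ (l : List ℕ) (b : Bst) {x : ℕ},
    x ∈ (l.foldl (fun b k => b.ins k) b).toList → x ∈ l ∨ x ∈ b.toList := by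
  intro l
  induction l with
  | nil => exact fun _ _ h => Or.inr h
  | cons k l ih =>
    intro b x h
    rcases ih _ h with h | h
    · exact Or.inl (List.mem_cons_of_mem _ h)
    · rcases Bst.mem_ins h with rfl | h
      exacts [Or.inl List.mem_cons_self, Or.inr h]

theorem of_pool (ws : List (List ℕ)) {x : ℕ}
    (hx : x ∈ ((ws.map fun w => key (conjW sC w)).foldl (fun b k => b.ins k) Bst.leaf).toList) :
    ∃ g, Rep (unkey x) g ∧ CG gC g := by
  rcases mem_foldl _ _ hx with h | h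
  · obtain ⟨w, -, rfl⟩ := List.mem_map.1 h
    exact ⟨_, by rw [unkey_key (rep_conjW rC w).1]; exact rep_conjW rC w, ⟨gw w, gw_mem w, rfl⟩⟩
  · simp [Bst.toList] at h

theorem pool_conj {S : St} {g : M8} (hS : Rep S g) (h : bstPool.has (key S) = true) : CG gC g := by
  obtain ⟨g', h1, h2⟩ := of_pool pool (Bst.mem_of_has h)
  rw [unkey_key hS.1] at h1
  rwa [hS.inj h1]

theorem sS_conj {S : St} {g : M8} (hS : Rep S g) (h : bstS.has (key S) = true) : CG gS g :=
  (class_s.2 g).2 (In.of_has hS h)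

theorem sS_complete {S : St} {g : M8} (hS : Rep S g) (h : CG gS g) : bstS.has (key S) = true :=
  ((class_s.2 g).1 h).has class_s.1 hS

theorem sq_of_eq {a : M8} {S : St} (h : Rep S a) (e : eqS (Mat.mul S S) one = true) : a * a = 1 :=
  eq_of_eqS (h.mul h) rep_one e

theorem ne_one_of {a : M8} {S : St} (h : Rep S a) (e : eqS S one = false) : a ≠ 1 := fun h1 => by
  rw [eqS_of_eq h rep_one h1] at e
  exact Bool.noConfusion e

theorem gS_sq : gS * gS = 1 := sq_of_eq rS pts.2.1.1.1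
theorem gC_sq : gC * gC = 1 := sq_of_eq rC pts.2.1.2.1.1
theorem gY_sq : gY * gY = 1 := sq_of_eq rY pts.2.1.2.2.1.1
theorem gW_sq : gW * gW = 1 := sq_of_eq rW pts.2.1.2.2.2.1
theorem gS_ne : gS ≠ 1 := ne_one_of rS pts.2.1.1.2
theorem gC_ne : gC ≠ 1 := ne_one_of rC pts.2.1.2.1.2
theorem gY_ne : gY ≠ 1 := ne_one_of rY pts.2.1.2.2.1.2
theorem gW_ne : gW ≠ 1 := ne_one_of rW pts.2.1.2.2.2.2
theorem comm_cy : Commute gC gY := (commS_iff rC rY).1 pts.2.2.1.1
theorem comm_wc : Commute gW gC := (commS_iff rW rC).1 pts.2.2.1.2.1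
theorem comm_wy : Commute gW gY := (commS_iff rW rY).1 pts.2.2.1.2.2

theorem y_c : CG gC gY := pool_conj rY pts.2.2.2.1
theorem cy_c : CG gC (gC * gY) := pool_conj (rC.mul rY) pts.2.2.2.2.1

/-- `-1` is a square in the centralizer of `s`. -/
theorem sq_s : ∃ k ∈ Gam, Commute k gS ∧ k * k = -1 :=
  ⟨gw wordKs, gw_mem _, ((commS_iff rS (rep_el _)).1 pts.1.1.1).symm,
    eq_of_eqS ((rep_el _).mul (rep_el _)) rep_neg1 pts.1.1.2⟩

theorem sq_t_c : ∃ k ∈ Gam, Commute k gC ∧ k * k = -1 :=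
  ⟨gw wordKc, gw_mem _, ((commS_iff rC (rep_el _)).1 pts.1.2.1.1).symm,
    eq_of_eqS ((rep_el _).mul (rep_el _)) rep_neg1 pts.1.2.1.2⟩

/-- The centralizer of `c`. -/
abbrev cenC : Subgroup M8 := Gam ⊓ centralizer ({gC} : Set M8)

/-- The generators of the centralizer. -/
def gensKG : List M8 := wordsK.map gw

theorem gensK_rep (i : ℕ) : Rep (gensK.getD i one) (gensKG.getD i 1) := by
  by_cases hi : i < wordsK.length
  · rw [List.getD_eq_getElem _ _ (by simpa [gensK] using hi), List.getD_eq_getElem _ _ (by simpa [gensKG] using hi)]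
    simp only [gensK, gensKG, List.getElem_map]
    exact rep_el _
  · rw [List.getD_eq_default _ _ (by simp [gensK]; omega), List.getD_eq_default _ _ (by simp [gensKG]; omega)]
    exact rep_one

/-- There are at least 3801 conjugates of `c`. -/
theorem card_class_c : 630 * 181 ≤ Nat.card {x // CG gC x} * 30 := by
  classical
  set CS : Finset M8 := (Set.toFinite {x : M8 | CG gS x}).toFinset with hCS
  set PC : Finset M8 := (Set.toFinite {x : M8 | CG gC x}).toFinset with hPC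
  have hmS : ∀ x, x ∈ CS ↔ CG gS x := fun x => by simp [hCS]
  have hmC : ∀ x, x ∈ PC ↔ CG gC x := fun x => by simp [hPC]
  have hcS : CS.card = 630 := by
    rw [← card_class_s.1, ← Set.ncard_eq_toFinset_card]
    exact (Nat.card_coe_set_eq _).symm
  have hcC : PC.card = Nat.card {x // CG gC x} := by
    rw [← Set.ncard_eq_toFinset_card]
    exact (Nat.card_coe_set_eq _).symm
  have hsum := Finset.sum_card_bipartiteAbove_eq_sum_card_bipartiteBelow (s := CS) (t := PC)
    (fun a b : M8 => Commute a b)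
  have habove : ∀ a ∈ CS, 181 ≤ (PC.bipartiteAbove (fun a b : M8 => Commute a b) a).card := by
    intro a ha
    obtain ⟨g, hg, rfl⟩ := (hmS a).1 ha
    have h0 := checkF_eq
    simp only [checkF, Bool.and_eq_true, List.all_eq_true] at h0
    obtain ⟨hsz, hcomm⟩ := h0
    obtain ⟨hinc, hlen⟩ := sized_spec hsz
    have hcard := card_in hinc (fun k hk => ⟨_, (of_pool wordsF hk).choose_spec.1⟩) (fun _ => true)
    rw [List.filter_true, hlen] at hcard
    rw [← hcard, ← Nat.card_eq_finsetCard]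
    refine Nat.card_le_card_of_injective
      (fun u => ⟨g * u.1 * g⁻¹, ?_⟩) (fun u v h => Subtype.ext (mul_left_cancel (mul_right_cancel
        (congrArg Subtype.val h))))
    obtain ⟨u, k, hk, -, hu⟩ := u
    obtain ⟨u', hu', hcu⟩ := of_pool wordsF hk
    rw [← hu.inj hu'] at hcu
    rw [Finset.mem_bipartiteAbove, hmC]
    exact ⟨hcu.trans ⟨g, hg, rfl⟩, (((commS_iff hu rS).1 (hcomm k hk)).symm).map (MulAut.conj g).toMonoidHom⟩
  have hbelow : ∀ b ∈ PC, (CS.bipartiteBelow (fun a b : M8 => Commute a b) b).card ≤ 30 := by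
    intro b hb
    obtain ⟨g, hg, rfl⟩ := (hmC b).1 hb
    rw [← card_class_s.2, ← Nat.card_eq_finsetCard]
    refine Nat.card_le_card_of_injective (fun u => ⟨g⁻¹ * u.1 * g, ?_⟩) (fun u v h => Subtype.ext
      (mul_left_cancel (mul_right_cancel (congrArg Subtype.val h))))
    obtain ⟨u, hu⟩ := u
    rw [Finset.mem_bipartiteBelow, hmS] at hu
    refine ⟨hu.1.trans ⟨g⁻¹, inv_mem hg, by group⟩, ?_⟩
    have := hu.2.map (MulAut.conj g⁻¹).toMonoidHom
    simp only [MulEquiv.coe_toMonoidHom, MulAut.conj_apply, inv_inv] at this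
    rwa [show g⁻¹ * (g * gC * g⁻¹) * g = gC by group] at this
  rw [← hcC, ← hcS]
  calc CS.card * 181 = ∑ _a ∈ CS, 181 := by rw [Finset.sum_const, smul_eq_mul]
    _ ≤ ∑ a ∈ CS, (PC.bipartiteAbove (fun a b : M8 => Commute a b) a).card := Finset.sum_le_sum habove
    _ = ∑ b ∈ PC, (CS.bipartiteBelow (fun a b : M8 => Commute a b) b).card := hsum
    _ ≤ ∑ _b ∈ PC, 30 := Finset.sum_le_sum hbelow
    _ = PC.card * 30 := by rw [Finset.sum_const, smul_eq_mul]

/-- The centralizer of `c` is the list. -/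
theorem cenC_iff : ∀ g, g ∈ cenC ↔ In bstK g := by
  have h0 := checkK_eq
  simp only [checkK, Bool.and_eq_true, List.all_eq_true] at h0
  obtain ⟨⟨⟨⟨hsz, hcl⟩, hgc⟩, -⟩, -⟩ := h0
  obtain ⟨hiff, hcard⟩ := span gensKG (by simp [gensK, gensKG]) gensK_rep rfl hsz
    (by simp only [closedB, Bool.and_eq_true, List.all_eq_true] at hcl ⊢; exact hcl)
  set K0 := Subgroup.closure {g : M8 | g ∈ gensKG}
  have hle : K0 ≤ cenC := by
    refine (closure_le _).2 fun g hg => ?_
    obtain ⟨w, hw, rfl⟩ := List.mem_map.1 (show g ∈ wordsK.map gw from hg)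
    refine ⟨gw_mem w, mem_centralizer_singleton_iff.2 ((commS_iff (rep_el w) rC).1 ?_).eq⟩
    exact hgc _ (List.mem_map.2 ⟨w, hw, rfl⟩)
  have hup : Nat.card cenC * Nat.card {x // CG gC x} ≤ 2903040 := by
    classical
    rw [← card_Gam, ← Nat.card_prod]
    choose f hf hfe using fun x : {x // CG gC x} => x.2
    refine Nat.card_le_card_of_injective (fun p => (⟨f p.2 * p.1.1, mul_mem (hf p.2) p.1.2.1⟩ : Gam)) ?_
    rintro ⟨⟨k, hk⟩, x⟩ ⟨⟨k', hk'⟩, x'⟩ h
    have h' : f x * k = f x' * k' := congrArg Subtype.val h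
    have key : ∀ (x : {x // CG gC x}) (k : M8), Commute k gC → f x * k * gC * (f x * k)⁻¹ = x.1 := fun x k hk => by
      rw [show f x * k * gC * (f x * k)⁻¹ = f x * (k * gC * k⁻¹) * (f x)⁻¹ by group, hk.eq, mul_inv_cancel_right,
        hfe]
    have hx : x = x' := Subtype.ext (by
      rw [← key x k (mem_centralizer_singleton_iff.1 hk.2), ← key x' k' (mem_centralizer_singleton_iff.1 hk'.2), h'])
    subst hx
    obtain rfl := mul_left_cancel h'
    rfl
  have hK : cenC = K0 := by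
    symm
    refine eq_of_le_of_card_ge hle ?_
    obtain ⟨m, hm⟩ := card_dvd_of_le hle
    rw [hcard] at hm
    have hP := card_class_c
    by_contra hlt
    have hm2 : 2 ≤ m := by
      rw [hcard, hm] at hlt
      omega
    have h1 : 768 * 3801 ≤ Nat.card cenC * Nat.card {x // CG gC x} := by
      refine Nat.mul_le_mul ?_ (by omega)
      rw [hm]; omega
    omega
  intro g
  rw [hK]
  exact hiff g

theorem gC_mem : gC ∈ Gam := gw_mem _

theorem gS_mem : gS ∈ Gam := gw_mem _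

/-- A listed element of the centralizer of `c` passes its test. -/
theorem K_test {g : M8} (hg : g ∈ cenC) : ∃ S, Rep S g ∧ pairOK S = true ∧ eqS (Mat.mul S S) sC = false ∧
    key S ∈ bstK.toList := by
  obtain ⟨k, hk, h⟩ := (cenC_iff g).1 hg
  have h0 := checkK_eq
  simp only [checkK, Bool.and_eq_true, List.all_eq_true, Bool.not_eq_true'] at h0
  refine ⟨unkey k, h, (h0.1.2 k hk).1, (h0.1.2 k hk).2, ?_⟩
  rw [show key (unkey k) = k from Nat.div_add_mod' k _]
  exact hk

theorem sq_c {x : M8} (hx : x ∈ Gam) : x * x ≠ gC := by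
  intro e
  obtain ⟨S, hS, -, hne, -⟩ := K_test (g := x)
    ⟨hx, mem_centralizer_singleton_iff.2 (by rw [← e, mul_assoc])⟩
  rw [eqS_of_eq (hS.mul hS) rC e] at hne
  exact Bool.noConfusion hne

theorem neg_one_comm (g : M8) : Commute g (-1) := commute_neg_one g

theorem not_s_of_c {x : M8} (h : CG gC x) : ¬ CG gS x := by
  intro hs
  obtain ⟨g, hg, e⟩ := hs.trans h.symm
  refine sq_c (x := g * gw wordKss * g⁻¹) (mul_mem (mul_mem hg (gw_mem _)) (inv_mem hg)) ?_
  rw [show g * gw wordKss * g⁻¹ * (g * gw wordKss * g⁻¹) = g * (gw wordKss * gw wordKss) * g⁻¹ by group,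
    eq_of_eqS ((rep_el _).mul (rep_el _)) rS pts.1.2.2, e]

theorem c_ne {x : M8} (h : CG gC x) : x ≠ 1 ∧ x ≠ -1 := by
  obtain ⟨g, hg, rfl⟩ := h
  refine ⟨fun e => gC_ne (conj_eq_one_iff.1 e), fun e => ?_⟩
  obtain ⟨k, hk, -, hk2⟩ := sq_t_c
  refine sq_c hk ?_
  rw [hk2]
  calc (-1 : M8) = g⁻¹ * (g * (-1)) := by group
    _ = g⁻¹ * ((-1) * g) := by rw [(neg_one_comm g).eq]
    _ = gC := by rw [← e]; group

theorem triv_cases {S : St} {g : M8} (hS : Rep S g) (h : trivOrS S = true) : ¬ CG gC g := by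
  intro hc
  simp only [trivOrS, Bool.or_eq_true] at h
  rcases h with (h | h) | h
  · exact (c_ne hc).1 (eq_of_eqS hS rep_one h)
  · exact (c_ne hc).2 (eq_of_eqS hS rep_neg1 h)
  · exact not_s_of_c hc (sS_conj hS h)

theorem pairs {y' : M8} (hy : y' ∈ cenC) (h1 : CG gC y') (h2 : CG gC (gC * y')) :
    ∃ h ∈ cenC, h * gY * h⁻¹ = y' ∨ h * gY * h⁻¹ = gC * y' := by
  obtain ⟨S, hS, hok, -, -⟩ := K_test hy
  have hy2 : y' * y' = 1 := by
    obtain ⟨g, hg, rfl⟩ := h1
    rw [show g * gC * g⁻¹ * (g * gC * g⁻¹) = g * (gC * gC) * g⁻¹ by group, gC_sq]; group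
  simp only [pairOK, eqS_of_eq (hS.mul hS) rep_one hy2, if_true, Bool.or_eq_true] at hok
  have hK : ∀ i, gw (wordsK.getD i []) ∈ cenC := by
    intro i
    by_cases hi : i < wordsK.length
    · rw [List.getD_eq_getElem _ _ hi]
      refine ⟨gw_mem _, mem_centralizer_singleton_iff.2 ((commS_iff (rep_el _) rC).1 ?_).eq⟩
      have h0 := checkK_eq
      simp only [checkK, Bool.and_eq_true, List.all_eq_true] at h0
      exact h0.1.1.2 _ (List.mem_map.2 ⟨_, List.getElem_mem hi, rfl⟩)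
    · rw [List.getD_eq_default _ _ (by omega)]
      exact one_mem _
  have hP : ∀ {T : St} {g : M8}, Rep T g → bstP.has (key T) = true → ∃ h ∈ cenC, h * gY * h⁻¹ = g := by
    intro T g hT h
    obtain ⟨g', hg', h', hh', e⟩ := reach_in (P := fun g => ∃ h ∈ cenC, h * gY * h⁻¹ = g)
      (fun S i g hS ⟨h, hh, he⟩ => ⟨_, rep_conjW hS (wordsK.getD i []), gw (wordsK.getD i []) * h,
        mul_mem (hK i) hh, by rw [← he]; group⟩) rY ⟨1, one_mem _, by group⟩ (Bst.mem_of_has h)
    rw [unkey_key hT.1] at hg'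
    exact ⟨h', hh', by rw [e, hT.inj hg']⟩
  rcases hok with ((h | h) | h) | h
  · exact absurd h1 (triv_cases hS h)
  · exact absurd h2 (triv_cases (rC.mul hS) h)
  · obtain ⟨k, hk, e⟩ := hP hS h; exact ⟨k, hk, Or.inl e⟩
  · obtain ⟨k, hk, e⟩ := hP (rC.mul hS) h; exact ⟨k, hk, Or.inr e⟩

theorem card_pair : Nat.card {g : M8 // g ∈ cenC ∧ Commute g gY} = 32 := by
  have h0 := checkK_eq
  simp only [checkK, Bool.and_eq_true] at h0
  obtain ⟨⟨⟨⟨hsz, -⟩, -⟩, -⟩, h32⟩ := h0
  have hrep : ∀ k ∈ bstK.toList, ∃ g, Rep (unkey k) g := fun k hk => by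
    obtain ⟨g, hg, -⟩ := reach_in (P := fun _ => True) (fun S i g hS _ => ⟨_, hS.mul (gensK_rep i), trivial⟩)
      rep_one trivial hk
    exact ⟨g, hg⟩
  have := card_in (sized_spec hsz).1 hrep (fun k => commS (unkey k) sY)
  rw [Nat.eq_of_beq_eq_true h32] at this
  rw [← this]
  exact Nat.card_congr (Equiv.subtypeEquivRight fun g =>
    ⟨fun ⟨hg, hc⟩ => by
      obtain ⟨k, hk, h⟩ := (cenC_iff g).1 hg
      exact ⟨k, hk, (commS_iff h rY).2 hc, h⟩,
    fun ⟨k, hk, hc, h⟩ => ⟨(cenC_iff g).2 ⟨k, hk, h⟩, (commS_iff h rY).1 hc⟩⟩)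

/-- The generators of the Sylow two-subgroup. -/
def gensTG : List M8 := wordsT.map gw

/-- A Sylow two-subgroup. -/
def sylT : Subgroup M8 := Subgroup.closure {g : M8 | g ∈ gensTG}

theorem gensT_rep (i : ℕ) : Rep (gensT.getD i one) (gensTG.getD i 1) := by
  by_cases hi : i < wordsT.length
  · rw [List.getD_eq_getElem _ _ (by simpa [gensT] using hi), List.getD_eq_getElem _ _ (by simpa [gensTG] using hi)]
    simp only [gensT, gensTG, List.getElem_map]
    exact rep_el _
  · rw [List.getD_eq_default _ _ (by simp [gensT]; omega), List.getD_eq_default _ _ (by simp [gensTG]; omega)]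
    exact rep_one

theorem sylT_le : sylT ≤ Gam := (closure_le _).2 fun g hg => by
  obtain ⟨w, -, rfl⟩ := List.mem_map.1 (show g ∈ wordsT.map gw from hg)
  exact gw_mem w

theorem sylT_spec : (∀ g, g ∈ sylT ↔ In bstT g) ∧ Nat.card sylT = 1024 := by
  have h0 := checkT_eq
  simp only [checkT, Bool.and_eq_true] at h0
  exact span gensTG (by simp [gensT, gensTG]) gensT_rep rfl h0.1 h0.2

theorem sylT_test {x : M8} (hx : x ∈ sylT) (h2 : x * x = 1) (hx1 : x ≠ 1) :
    (x = -1 ∨ CG gS x ∨ CG gC x) ∧ ((∀ u ∈ sylT, Commute x u) → x = -1) := by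
  obtain ⟨k, hk, h⟩ := (sylT_spec.1 x).1 hx
  have h0 := checkTInv_eq
  simp only [checkTInv, List.all_eq_true] at h0
  have hk' := h0 k hk
  simp only [invOK, eqS_of_eq (h.mul h) rep_one h2, if_true, Bool.and_eq_true, Bool.or_eq_true, List.any_eq_true,
    Bool.not_eq_true'] at hk'
  obtain ⟨ha, hb⟩ := hk'
  refine ⟨?_, fun hcen => ?_⟩
  · rcases ha with h' | h'
    · simp only [trivOrS, Bool.or_eq_true] at h'
      rcases h' with (h' | h') | h'
      exacts [absurd (eq_of_eqS h rep_one h') hx1, Or.inl (eq_of_eqS h rep_neg1 h'), Or.inr (Or.inl (sS_conj h h'))]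
    · exact Or.inr (Or.inr (pool_conj h h'))
  · rcases hb with (h' | h') | ⟨g, hg, h'⟩
    · exact absurd (eq_of_eqS h rep_one h') hx1
    · exact eq_of_eqS h rep_neg1 h'
    · exfalso
      obtain ⟨w, hw, rfl⟩ := List.mem_map.1 (show g ∈ wordsT.map el from hg)
      rw [(commS_iff h (rep_el w)).2 (hcen _ (subset_closure (List.mem_map.2 ⟨w, hw, rfl⟩)))] at h'
      exact Bool.noConfusion h'

/-- The involutions of the double cover. -/
theorem classes {x : M8} (hx : x ∈ Gam) (h2 : x * x = 1) (hx1 : x ≠ 1) : x = -1 ∨ CG gS x ∨ CG gC x := by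
  haveI : Fact (Nat.Prime 2) := ⟨Nat.prime_two⟩
  have hcard : Nat.card (sylT.subgroupOf Gam) = 1024 := by
    rw [Nat.card_congr (subgroupOfEquivOfLe sylT_le).toEquiv]; exact sylT_spec.2
  have hP : IsPGroup 2 (sylT.subgroupOf Gam) := IsPGroup.of_card (n := 10) hcard
  have hidx : ¬ 2 ∣ (sylT.subgroupOf Gam).index := by
    have := (sylT.subgroupOf Gam).card_mul_index
    rw [hcard, card_Gam] at this
    omega
  let P : Sylow 2 Gam := hP.toSylow hidx
  obtain ⟨Q, hQ⟩ := (show IsPGroup 2 (zpowers (⟨x, hx⟩ : Gam)) from fun z => by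
    obtain ⟨z, hz⟩ := z
    obtain ⟨i, rfl⟩ := mem_zpowers_iff.1 hz
    exact ⟨1, Subtype.ext (show ((⟨x, hx⟩ : Gam) ^ i) ^ (2 ^ 1) = 1 by
      rw [pow_one, ← zpow_natCast, ← zpow_mul, mul_comm, zpow_mul, zpow_natCast, sq,
        show (⟨x, hx⟩ : Gam) * ⟨x, hx⟩ = 1 from Subtype.ext h2, one_zpow])⟩).exists_le_sylow
  obtain ⟨g, hg⟩ := MulAction.exists_smul_eq Gam Q P
  have hgx : (g : M8) * x * (g : M8)⁻¹ ∈ sylT := by
    have : g * ⟨x, hx⟩ * g⁻¹ ∈ (P : Subgroup Gam) := by
      rw [← hg]; exact ⟨⟨x, hx⟩, hQ (mem_zpowers _), rfl⟩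
    exact this
  have hcg : CG x ((g : M8) * x * (g : M8)⁻¹) := ⟨g, g.2, rfl⟩
  rcases (sylT_test hgx (by
      rw [show (g : M8) * x * (g : M8)⁻¹ * ((g : M8) * x * (g : M8)⁻¹) = g * (x * x) * (g : M8)⁻¹ by group, h2]; group)
      (fun e => hx1 (conj_eq_one_iff.1 e))).1 with e | e | e
  · left
    calc x = (g : M8)⁻¹ * ((g : M8) * x * (g : M8)⁻¹) * g := by group
      _ = (g : M8)⁻¹ * ((-1) * g) := by rw [e, mul_assoc]
      _ = -1 := by rw [← (neg_one_comm (g : M8)).eq]; group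
  · exact Or.inr (Or.inl (e.trans hcg.symm))
  · exact Or.inr (Or.inr (e.trans hcg.symm))

/-- The generators of the elementary subgroup. -/
def gensAG : List M8 := [gC, gY, gw wordA, gB]

/-- The elementary subgroup. -/
def elA : Subgroup M8 := Subgroup.closure {g : M8 | g ∈ gensAG}

theorem gensA_rep (i : ℕ) : Rep (gensA.getD i one) (gensAG.getD i 1) := by
  rcases i with _ | _ | _ | _ | i
  exacts [rC, rY, rep_el _, rB, rep_one]

theorem elA_le : elA ≤ Gam := (closure_le _).2 fun g hg => by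
  simp only [Set.mem_setOf_eq, gensAG, List.mem_cons, List.not_mem_nil, or_false] at hg
  rcases hg with rfl | rfl | rfl | rfl <;> exact gw_mem _

theorem elA_spec : (∀ g, g ∈ elA ↔ In bstA g) ∧ Nat.card elA = 16 := by
  have h0 := checkA_eq
  simp only [checkA, Bool.and_eq_true] at h0
  exact span gensAG rfl gensA_rep rfl h0.1.1.1.1.1.1 h0.1.1.1.1.1.2

theorem elA_gen : ∀ g ∈ gensAG, Commute g gC ∧ Commute g gY ∧ g * g = 1 ∧ ∀ h ∈ gensAG, Commute g h := by
  have h0 := checkA_eq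
  simp only [checkA, Bool.and_eq_true, List.all_eq_true] at h0
  have hgen := h0.1.1.2
  have hmap : ∀ g ∈ gensAG, ∃ S ∈ gensA, Rep S g := by
    intro g hg
    obtain ⟨i, hi, rfl⟩ := List.getElem_of_mem hg
    have hi' : i < gensA.length := by simpa [gensA, gensAG] using hi
    have h := gensA_rep i
    rw [List.getD_eq_getElem _ _ hi', List.getD_eq_getElem _ _ hi] at h
    exact ⟨_, List.getElem_mem hi', h⟩
  intro g hg
  obtain ⟨S, hS, hr⟩ := hmap g hg
  obtain ⟨⟨⟨h1, h2⟩, h3⟩, h4⟩ := hgen S hS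
  refine ⟨(commS_iff hr rC).1 h1, (commS_iff hr rY).1 h2, sq_of_eq hr h3, fun h hh => ?_⟩
  obtain ⟨T, hT, hr'⟩ := hmap h hh
  exact (commS_iff hr hr').1 (h4 T hT)

theorem elA_comm : ∀ a ∈ elA, ∀ b ∈ elA, Commute a b := by
  intro a ha b hb
  haveI : IsMulCommutative elA := Subgroup.isMulCommutative_closure fun x hx y hy => (elA_gen x hx).2.2.2 y hy
  exact congrArg Subtype.val (IsMulCommutative.is_comm.comm (⟨a, ha⟩ : elA) ⟨b, hb⟩)

theorem elA_sq : ∀ a ∈ elA, a * a = 1 := by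
  intro a ha
  induction ha using closure_induction with
  | mem g hg => exact (elA_gen g hg).2.2.1
  | one => exact one_mul 1
  | mul u v hu hv ihu ihv =>
    rw [show u * v * (u * v) = u * (v * u) * v by group, (elA_comm v hv u hu).eq,
      show u * (u * v) * v = u * u * (v * v) by group, ihu, ihv, one_mul]
  | inv u hu ihu => rw [← mul_inv_rev, ihu, inv_one]

theorem elA_cen : ∀ a ∈ elA, Commute a gC ∧ Commute a gY := by
  intro a ha
  induction ha using closure_induction with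
  | mem g hg => exact ⟨(elA_gen g hg).1, (elA_gen g hg).2.1⟩
  | one => exact ⟨Commute.one_left _, Commute.one_left _⟩
  | mul u v _ _ ihu ihv => exact ⟨ihu.1.mul_left ihv.1, ihu.2.mul_left ihv.2⟩
  | inv u _ ihu => exact ⟨ihu.1.inv_left, ihu.2.inv_left⟩

theorem half_facts : (-1 : M8) ∈ elA ∧ gW ∉ elA ∧
    (∀ a ∈ elA, a ∉ ({1, gC, gY, gC * gY} : Set M8) →
      ∃! d : M8, d ∈ ({a, gC * a, gY * a, gC * gY * a} : Set M8) ∧ (d = -1 ∨ CG gS d)) ∧
    ∃ a ∈ elA, gW * a * gW⁻¹ * a⁻¹ ∈ ({-1, gC * -1, gY * -1, gC * gY * -1} : Set M8) := by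
  have h0 := checkA_eq
  simp only [checkA, Bool.and_eq_true, List.all_eq_true, Bool.not_eq_true', List.any_eq_true] at h0
  obtain ⟨⟨⟨⟨⟨⟨hsz, -⟩, hneg⟩, hnW⟩, -⟩, hcos⟩, ⟨T, hT, hTe⟩⟩ := h0
  refine ⟨(elA_spec.1 _).2 (In.of_has rep_neg1 hneg), fun h => ?_, fun a ha hav => ?_, ?_⟩
  · rw [((elA_spec.1 _).1 h).has (sized_spec hsz).1 rW] at hnW
    exact Bool.noConfusion hnW
  · obtain ⟨k, hk, h⟩ := (elA_spec.1 a).1 ha
    have hk' := hcos k hk
    simp only [cosetOK, Bool.or_eq_true] at hk'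
    simp only [Set.mem_insert_iff, Set.mem_singleton_iff, not_or] at hav
    rcases hk' with (((e | e) | e) | e) | e
    · exact absurd (eq_of_eqS h rep_one e) hav.1
    · exact absurd (eq_of_eqS h rC e) hav.2.1
    · exact absurd (eq_of_eqS h rY e) hav.2.2.1
    · exact absurd (eq_of_eqS h (rC.mul rY) e) hav.2.2.2
    · obtain ⟨D, hD⟩ := List.length_eq_one_iff.1 (Nat.eq_of_beq_eq_true e)
      have hiff : ∀ {U : St} {u : M8}, Rep U u → (isD U = true ↔ u = -1 ∨ CG gS u) := by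
        intro U u hU
        simp only [isD, Bool.or_eq_true]
        exact ⟨fun h => h.imp (eq_of_eqS hU rep_neg1) (sS_conj hU), fun h => h.imp (eqS_of_eq hU rep_neg1) (sS_complete hU)⟩
      have hDm : D ∈ [unkey k, Mat.mul sC (unkey k), Mat.mul sY (unkey k), Mat.mul (Mat.mul sC sY) (unkey k)] ∧
          isD D = true := List.mem_filter.1 (hD ▸ List.mem_singleton_self D)
      have hreps : ∀ U ∈ [unkey k, Mat.mul sC (unkey k), Mat.mul sY (unkey k), Mat.mul (Mat.mul sC sY) (unkey k)],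
          ∃ u ∈ ({a, gC * a, gY * a, gC * gY * a} : Set M8), Rep U u := by
        intro U hU
        simp only [List.mem_cons, List.not_mem_nil, or_false] at hU
        rcases hU with rfl | rfl | rfl | rfl
        exacts [⟨a, by simp, h⟩, ⟨gC * a, by simp, rC.mul h⟩, ⟨gY * a, by simp, rY.mul h⟩,
          ⟨gC * gY * a, by simp, (rC.mul rY).mul h⟩]
      obtain ⟨d, hd, hDd⟩ := hreps D hDm.1
      refine ⟨d, ⟨hd, (hiff hDd).1 hDm.2⟩, ?_⟩
      rintro u ⟨hu, hu'⟩
      obtain ⟨U, hU, hUu⟩ : ∃ U ∈ [unkey k, Mat.mul sC (unkey k), Mat.mul sY (unkey k),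
          Mat.mul (Mat.mul sC sY) (unkey k)], Rep U u := by
        simp only [Set.mem_insert_iff, Set.mem_singleton_iff] at hu
        rcases hu with rfl | rfl | rfl | rfl
        exacts [⟨_, by simp, h⟩, ⟨_, by simp, rC.mul h⟩, ⟨_, by simp, rY.mul h⟩, ⟨_, by simp, (rC.mul rY).mul h⟩]
      have hUf : U ∈ [D] := hD ▸ List.mem_filter.2 ⟨hU, (hiff hUu).2 hu'⟩
      rw [List.mem_singleton] at hUf
      exact hUu.inj (hUf ▸ hDd)
  · refine ⟨gB, subset_closure (by simp [gensAG]), ?_⟩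
    rw [inv_eq_of_mul_eq_one_right gW_sq,
      inv_eq_of_mul_eq_one_right (elA_sq gB (subset_closure (by simp [gensAG]))),
      show gW * gB * gW * gB = gW * gB * (gW * gB) by group]
    have hlhs := (rW.mul rB).mul (rW.mul rB)
    simp only [List.mem_cons, List.not_mem_nil, or_false] at hT
    rcases hT with rfl | rfl | rfl | rfl
    · exact Or.inl (eq_of_eqS hlhs rep_neg1 hTe)
    · exact Or.inr (Or.inl (eq_of_eqS hlhs (rC.mul rep_neg1) hTe))
    · exact Or.inr (Or.inr (Or.inl (eq_of_eqS hlhs (rY.mul rep_neg1) hTe)))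
    · exact Or.inr (Or.inr (Or.inr (eq_of_eqS hlhs ((rC.mul rY).mul rep_neg1) hTe)))

theorem w_coset : CG gC gW ∧ CG gC (gC * gW) ∧ CG gC (gY * gW) ∧ CG gC (gC * gY * gW) := by
  obtain ⟨-, -, h3, h4, h5, h6⟩ := pts.2.2.2
  exact ⟨pool_conj rW h3, pool_conj (rC.mul rW) h4, pool_conj (rY.mul rW) h5, pool_conj ((rC.mul rY).mul rW) h6⟩

/-- `s` in the double cover. -/
def mS : Gam := ⟨gS, gw_mem _⟩

/-- `c` in the double cover. -/
def mC : Gam := ⟨gC, gw_mem _⟩

/-- `y` in the double cover. -/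
def mY : Gam := ⟨gY, gw_mem _⟩

/-- `w` in the double cover. -/
def mW : Gam := ⟨gW, gw_mem _⟩

/-- **The local facts.** -/
theorem exists_loc {G : Type*} [Group G] [Finite G] (t : G) (ht : orderOf t = 2)
    (hC : Cfsg.IsNonsplitDoubleCover (centralizer ({t} : Set G)) K6) :
    ∃ e : centralizer ({t} : Set G) ≃* Gam,
      ((e ⟨t, mem_centralizer_singleton_iff.2 rfl⟩ : Gam) : M8) = -1 ∧
      Loc t (e.symm mS : G) (e.symm mC : G) (e.symm mY : G) (e.symm mW : G) := by
  obtain ⟨e, he⟩ := exists_iso hC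
  have htC : t ∈ centralizer ({t} : Set G) := mem_centralizer_singleton_iff.2 rfl
  have het : ((e ⟨t, htC⟩ : Gam) : M8) = -1 := by
    refine he _ (mem_center_iff.2 fun g => Subtype.ext ?_) fun h => ?_
    · exact mem_centralizer_singleton_iff.1 g.2
    · have h1 : t = 1 := congrArg Subtype.val h
      rw [h1, orderOf_one] at ht
      omega
  refine ⟨e, het, ?_⟩
  let em : Gam →* G := (centralizer ({t} : Set G)).subtype.comp e.symm.toMonoidHom
  have hinj : Function.Injective em := Subtype.val_injective.comp e.symm.injective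
  have hmem : ∀ x, em x ∈ centralizer ({t} : Set G) := fun x => (e.symm x).2
  have hsurj : ∀ g ∈ centralizer ({t} : Set G), ∃ x : Gam, em x = g := fun g hg =>
    ⟨e ⟨g, hg⟩, congrArg Subtype.val (e.symm_apply_apply ⟨g, hg⟩)⟩
  have hem_t : ∀ x : Gam, (x : M8) = -1 → em x = t := fun x hx => by
    rw [show x = e ⟨t, htC⟩ from Subtype.ext (hx.trans het.symm)]
    exact congrArg Subtype.val (e.symm_apply_apply ⟨t, htC⟩)
  let nt : Gam := ⟨-1, neg_one_mem⟩
  have hnt : em nt = t := hem_t nt rfl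
  have hord : ∀ x : Gam, (x : M8) * x = 1 → (x : M8) ≠ 1 → orderOf (em x) = 2 := fun x h2 h1 => by
    rw [orderOf_eq_prime_iff, ← map_pow]
    exact ⟨by rw [show x ^ 2 = 1 from Subtype.ext (by rw [SubmonoidClass.coe_pow, sq, h2]; rfl), map_one],
      fun h => h1 (congrArg Subtype.val (hinj (h.trans (map_one em).symm)))⟩
  have hcomm : ∀ x y : Gam, Commute (x : M8) y → Commute (em x) (em y) := fun x y h =>
    (show Commute x y from Subtype.ext h).map em
  have hcomm' : ∀ x y : Gam, Commute (em x) (em y) → Commute (x : M8) y := fun x y h =>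
    congrArg Subtype.val (hinj (show em (x * y) = em (y * x) by rw [map_mul, map_mul]; exact h))
  have hCI : ∀ x y : Gam, CG (x : M8) y → ConjIn t (em x) (em y) := by
    rintro x y ⟨g, hg, h⟩
    exact ⟨em ⟨g, hg⟩, hmem _, by rw [← map_inv, ← map_mul, ← map_mul]; exact congrArg em (Subtype.ext h)⟩
  have hCI' : ∀ x y : Gam, ConjIn t (em x) (em y) → CG (x : M8) y := by
    rintro x y ⟨g, hg, h⟩
    obtain ⟨g, rfl⟩ := hsurj g hg
    rw [← map_inv, ← map_mul, ← map_mul] at h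
    exact ⟨g, g.2, congrArg Subtype.val (hinj h)⟩
  have htx : ∀ x : Gam, Commute t (em x) := fun x => (mem_centralizer_singleton_iff.1 (hmem x)).symm
  show Loc t (em mS) (em mC) (em mY) (em mW)
  refine
    { ord_t := ht
      ord_s := hord mS gS_sq gS_ne
      ord_c := hord mC gC_sq gC_ne
      ord_y := hord mY gY_sq gY_ne
      ord_w := hord mW gW_sq gW_ne
      comm_s := htx mS
      comm_c := htx mC
      comm_y := htx mY
      comm_w := htx mW
      comm_cy := hcomm mC mY comm_cy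
      card_cent := by rw [Nat.card_congr e.toEquiv]; exact card_Gam
      classes := ?_
      s_ne := fun h => not_s_of_c (CG.refl gC) (hCI' mS mC h)
      sq_s := ?_
      sq_t_c := ?_
      sq_c := ?_
      sylow := ?_
      y_c := hCI mC mY y_c
      cy_c := by rw [← map_mul]; exact hCI mC (mC * mY) cy_c
      pairs := ?_
      card_pair := ?_
      comm_wc := hcomm mW mC comm_wc
      comm_wy := hcomm mW mY comm_wy
      w_coset := ?_
      half := ?_ }
  · intro g hg ho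
    obtain ⟨x, rfl⟩ := hsurj g hg
    have hx2 : x ^ 2 = 1 := hinj (by
      rw [map_pow, map_one]; have := pow_orderOf_eq_one (em x); rwa [ho] at this)
    have hx1 : (x : M8) ≠ 1 := fun h => by
      rw [show x = 1 from Subtype.ext h, map_one, orderOf_one] at ho; omega
    rcases classes x.2 (by have := congrArg Subtype.val hx2; rwa [SubmonoidClass.coe_pow, sq] at this) hx1 with
      h | h | h
    exacts [Or.inl (hem_t x h), Or.inr (Or.inl (hCI mS x h)), Or.inr (Or.inr (hCI mC x h))]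
  · obtain ⟨k, hk, h1, h2⟩ := sq_s
    exact ⟨em ⟨k, hk⟩, hmem _, hcomm ⟨k, hk⟩ mS h1,
      by rw [← map_mul]; exact hem_t _ h2⟩
  · obtain ⟨k, hk, h1, h2⟩ := sq_t_c
    exact ⟨em ⟨k, hk⟩, hmem _, hcomm ⟨k, hk⟩ mC h1,
      by rw [← map_mul]; exact hem_t _ h2⟩
  · intro g hg h
    obtain ⟨x, rfl⟩ := hsurj g hg
    rw [← map_mul] at h
    exact sq_c x.2 (congrArg Subtype.val (hinj h))
  · refine ⟨(sylT.subgroupOf Gam).map em, fun g hg => by obtain ⟨x, -, rfl⟩ := hg; exact hmem x, ?_, ?_⟩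
    · rw [card_map_of_injective hinj, Nat.card_congr (subgroupOfEquivOfLe sylT_le).toEquiv]
      exact sylT_spec.2
    · rintro _ ⟨x, hx, rfl⟩ ho hcen
      refine hem_t x ((sylT_test hx ?_ ?_).2 fun u hu => ?_)
      · have h : em (x * x) = em 1 := by
          rw [map_mul, map_one]; have := pow_orderOf_eq_one (em x); rwa [ho, sq] at this
        exact congrArg Subtype.val (hinj h)
      · intro h
        rw [show x = 1 from Subtype.ext h, map_one, orderOf_one] at ho
        omega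
      · exact hcomm' x ⟨u, sylT_le hu⟩ (hcen _ ⟨⟨u, sylT_le hu⟩, hu, rfl⟩)
  · intro c' hc' y' hy' hcy h1 h2 h3
    obtain ⟨a, rfl⟩ := hsurj c' hc'
    obtain ⟨b, rfl⟩ := hsurj y' hy'
    rw [← map_mul] at h3
    obtain ⟨g, hg, hga⟩ := hCI' _ _ h1
    set g' : Gam := ⟨g, hg⟩
    -- move the first element to `c`
    have hb1 : g⁻¹ * (b : M8) * g ∈ cenC := by
      refine ⟨mul_mem (mul_mem (Subgroup.inv_mem Gam hg) b.2) hg, mem_centralizer_singleton_iff.2 ?_⟩
      have := (hcomm' a b hcy).symm.map (MulAut.conj g⁻¹).toMonoidHom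
      simp only [MulEquiv.coe_toMonoidHom, MulAut.conj_apply, inv_inv] at this
      rw [← hga, show g⁻¹ * (g * (mC : M8) * g⁻¹) * g = gC from by show g⁻¹ * (g * gC * g⁻¹) * g = gC; group] at this
      exact this.eq
    obtain ⟨h, hh, hor⟩ := LocalModel.pairs hb1
      ((hCI' _ _ h2).trans ⟨g⁻¹, inv_mem hg, by group⟩)
      ((hCI' _ _ h3).trans ⟨g⁻¹, inv_mem hg, by
        rw [Subgroup.coe_mul, ← hga]; show g⁻¹ * (g * gC * g⁻¹ * b) * g⁻¹⁻¹ = gC * (g⁻¹ * b * g); group⟩)
    refine ⟨em (g' * ⟨h, hh.1⟩), hmem _, ?_, ?_⟩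
    · rw [← map_inv, ← map_mul, ← map_mul]
      refine congrArg em (Subtype.ext ?_)
      show g * h * gC * (g * h)⁻¹ = (a : M8)
      rw [← hga, show g * h * gC * (g * h)⁻¹ = g * (h * gC * h⁻¹) * g⁻¹ by group,
        (show Commute h gC from mem_centralizer_singleton_iff.1 hh.2).eq, mul_inv_cancel_right]
      rfl
    · simp only [← map_inv, ← map_mul]
      refine hor.imp (fun e1 => congrArg em (Subtype.ext ?_)) (fun e1 => congrArg em (Subtype.ext ?_))
      · show g * h * gY * (g * h)⁻¹ = (b : M8)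
        rw [show g * h * gY * (g * h)⁻¹ = g * (h * gY * h⁻¹) * g⁻¹ by group, e1]; group
      · show g * h * gY * (g * h)⁻¹ = (a : M8) * b
        rw [show g * h * gY * (g * h)⁻¹ = g * (h * gY * h⁻¹) * g⁻¹ by group, e1, ← hga]
        show g * (gC * (g⁻¹ * b * g)) * g⁻¹ = g * gC * g⁻¹ * b
        group
  · rw [← LocalModel.card_pair]
    refine (Nat.card_congr (Equiv.ofBijective
      (fun x : {g : M8 // g ∈ cenC ∧ Commute g gY} =>
        (⟨em ⟨x.1, x.2.1.1⟩, ⟨⟨hmem _, mem_centralizer_singleton_iff.2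
          (hcomm ⟨x.1, x.2.1.1⟩ mC (mem_centralizer_singleton_iff.1 x.2.1.2)).eq⟩,
          mem_centralizer_singleton_iff.2 (hcomm ⟨x.1, x.2.1.1⟩ mY x.2.2).eq⟩⟩ :
          (centralizer ({t} : Set G) ⊓ centralizer ({em mC} : Set G) ⊓ centralizer ({em mY} : Set G) :
            Subgroup G))) ⟨fun x y h => ?_, ?_⟩)).symm
    · have h' := congrArg (fun z : (centralizer ({t} : Set G) ⊓ centralizer ({em mC} : Set G) ⊓
        centralizer ({em mY} : Set G) : Subgroup G) => (z : G)) h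
      exact Subtype.ext (congrArg (fun z : Gam => (z : M8)) (hinj h'))
    · rintro ⟨g, ⟨⟨hg1, hg2⟩, hg3⟩⟩
      obtain ⟨x, rfl⟩ := hsurj g hg1
      exact ⟨⟨x, ⟨x.2, mem_centralizer_singleton_iff.2 (hcomm' x mC (mem_centralizer_singleton_iff.1 hg2)).eq⟩,
        hcomm' x mY (mem_centralizer_singleton_iff.1 hg3)⟩, rfl⟩
  · obtain ⟨h1, h2, h3, h4⟩ := LocalModel.w_coset
    simp only [← map_mul]
    exact ⟨hCI mC mW h1, hCI mC (mC * mW) h2, hCI mC (mY * mW) h3, hCI mC (mC * mY * mW) h4⟩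
  · obtain ⟨hneg, hW, huniq, b, hb, hbw⟩ := half_facts
    refine ⟨(elA.subgroupOf Gam).map em, ?_, ?_, ⟨mC, subset_closure (by simp [gensAG, mC]), rfl⟩,
      ⟨mY, subset_closure (by simp [gensAG, mY]), rfl⟩, ⟨nt, hneg, hnt⟩, ?_, ?_, ?_, ?_, ?_⟩
    · rintro _ ⟨x, hx, rfl⟩
      exact ⟨⟨hmem x, mem_centralizer_singleton_iff.2 (hcomm x mC (elA_cen _ hx).1).eq⟩,
        mem_centralizer_singleton_iff.2 (hcomm x mY (elA_cen _ hx).2).eq⟩
    · rw [card_map_of_injective hinj, Nat.card_congr (subgroupOfEquivOfLe elA_le).toEquiv]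
      exact elA_spec.2
    · rintro ⟨x, hx, h⟩
      exact hW (hinj h ▸ hx : ((mW : Gam) : M8) ∈ elA)
    · rintro _ ⟨x, hx, rfl⟩ _ ⟨y, hy, rfl⟩
      exact hcomm x y (elA_comm _ hx _ hy)
    · rintro _ ⟨x, hx, rfl⟩
      rw [← map_mul, show x * x = 1 from Subtype.ext (elA_sq _ hx), map_one]
    · rintro _ ⟨x, hx, rfl⟩ hxV
      simp only [Set.mem_insert_iff, Set.mem_singleton_iff, not_or] at hxV
      obtain ⟨d, ⟨hd1, hd2⟩, hd3⟩ := huniq _ hx (by
        simp only [Set.mem_insert_iff, Set.mem_singleton_iff, not_or]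
        refine ⟨fun h => hxV.1 ?_, fun h => hxV.2.1 ?_, fun h => hxV.2.2.1 ?_, fun h => hxV.2.2.2 ?_⟩
        · rw [show x = 1 from Subtype.ext h, map_one]
        · rw [show x = mC from Subtype.ext h]
        · rw [show x = mY from Subtype.ext h]
        · rw [show x = mC * mY from Subtype.ext h, map_mul])
      have hset : ∀ u : Gam, (u : M8) ∈ ({(x : M8), gC * x, gY * x, gC * gY * x} : Set M8) ↔
          em u ∈ ({em x, em mC * em x, em mY * em x, em mC * em mY * em x} : Set G) := fun u => by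
        simp only [Set.mem_insert_iff, Set.mem_singleton_iff, ← map_mul, hinj.eq_iff, Subtype.ext_iff,
          Subgroup.coe_mul]
        rfl
      have hdG : d ∈ Gam := by
        simp only [Set.mem_insert_iff, Set.mem_singleton_iff] at hd1
        rcases hd1 with rfl | rfl | rfl | rfl
        exacts [x.2, mul_mem gC_mem x.2, mul_mem (gw_mem _) x.2, mul_mem (mul_mem gC_mem (gw_mem _)) x.2]
      refine ⟨em ⟨d, hdG⟩, ⟨(hset ⟨d, hdG⟩).1 hd1, hd2.imp (hem_t ⟨d, hdG⟩) (hCI mS ⟨d, hdG⟩)⟩, ?_⟩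
      rintro g ⟨hg1, hg2⟩
      have hgC : g ∈ centralizer ({t} : Set G) := by
        simp only [Set.mem_insert_iff, Set.mem_singleton_iff] at hg1
        rcases hg1 with rfl | rfl | rfl | rfl <;> (try simp only [← map_mul]) <;> exact hmem _
      obtain ⟨u, rfl⟩ := hsurj g hgC
      refine congrArg em (Subtype.ext (hd3 u ⟨(hset u).2 hg1, hg2.imp (fun h => ?_) (hCI' mS u)⟩))
      exact congrArg Subtype.val (hinj (h.trans hnt.symm))
    · refine ⟨em ⟨b, elA_le hb⟩, ⟨⟨b, elA_le hb⟩, hb, rfl⟩, ?_⟩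
      rw [← hnt]
      simp only [← map_inv, ← map_mul, Set.mem_insert_iff, Set.mem_singleton_iff, hinj.eq_iff, Subtype.ext_iff,
        Subgroup.coe_mul, InvMemClass.coe_inv]
      exact hbw

end CfsgLib.Co3U.LocalModel
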