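import Cfsg.Agent.Co3Mult.Base
import Cfsg.Agent.Coset.Chain
import Cfsg.Agent.Leech.StabSimple

/-!
# Images in the third Conway group

Elements of the stabiliser model given by programs in its three generators, word checks on their codes,
generation by a program in the images, and the isomorphism of a bounded presented group.
-/

set_option autoImplicit false
set_option maxRecDepth 100000
set_option linter.style.haveILetI false

namespace CfsgLib.Co3U.Image

open Cfsg CfsgLib.Coset CfsgLib.Co0Model CfsgLib.OutConway
open CfsgLib.CentralCert (Model tab)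
open CfsgLib.ExtCert (forceN forceN_eq)

attribute [local irreducible] slpN slpG mmul oneCode CfsgLib.Leech.shortVecs CfsgLib.Leech.halfTable
  CfsgLib.Leech.quarterTable CfsgLib.Co3Mult.tCode CfsgLib.Co3Mult.bCode CfsgLib.Co3Mult.zCode

/-- The stabiliser is the group of the list. -/
def toSpor : Three.H ≃* Spor.Co3 where
  toFun g := ⟨g.1.1, g.1.2, g.2⟩
  invFun g := ⟨⟨g.1, g.2.1⟩, g.2.2⟩
  left_inv _ := rfl
  right_inv _ := rfl
  map_mul' _ _ := rfl

theorem card_H : Nat.card Three.H = 495766656000 :=
  CfsgLib.Leech.card_stabilizer_48 Cfsg.Agent.McLSimple.sq_vecV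

theorem simple_H : IsSimpleGroup Three.H := CfsgLib.Leech.simple_stab_vecV

/-- The codes. -/
def md : Model Three.H ℕ := modelSub Three.H

/-- Extend a list by the products named in a program. -/
def runG {M : Type*} [Monoid M] : List (ℕ × ℕ) → List M → List M
  | [], l => l
  | (a, b) :: ps, l => runG ps (l ++ [l.getD a 1 * l.getD b 1])

/-- The same on codes. -/
def runN : List (ℕ × ℕ) → List ℕ → List ℕ
  | [], l => l
  | (a, b) :: ps, l => forceN (mmul (l.getD a oneCode) (l.getD b oneCode)) fun v => runN ps (l ++ [v])

theorem map_run : ∀ (ps : List (ℕ × ℕ)) (l : List Three.H), (runG ps l).map md.enc = runN ps (l.map md.enc) := by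
  intro ps
  induction ps with
  | nil => intro l; rfl
  | cons e ps ih =>
    intro l
    obtain ⟨a, b⟩ := e
    rw [runG, runN, forceN_eq, show oneCode = md.one from rfl, getD_map_enc, getD_map_enc,
      show mmul = md.mul from rfl, ← md.enc_mul, ih, List.map_append]
    rfl

theorem getD_mem {G : Type*} [Group G] {K : Subgroup G} {l : List G} (h : ∀ x ∈ l, x ∈ K) (i : ℕ) :
    l.getD i 1 ∈ K := by
  rcases lt_or_ge i l.length with hi | hi
  · rw [List.getD_eq_getElem _ _ hi]; exact h _ (List.getElem_mem hi)
  · rw [List.getD_eq_default _ _ hi]; exact one_mem _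

theorem run_mem {G : Type*} [Group G] {K : Subgroup G} : ∀ (ps : List (ℕ × ℕ)) (l : List G),
    (∀ x ∈ l, x ∈ K) → ∀ x ∈ runG ps l, x ∈ K := by
  intro ps
  induction ps with
  | nil => intro l h; exact h
  | cons e ps ih =>
    intro l h
    obtain ⟨a, b⟩ := e
    refine ih _ fun x hx => ?_
    rcases List.mem_append.1 hx with hx | hx
    · exact h x hx
    · rw [List.mem_singleton.1 hx]
      exact mul_mem (getD_mem h a) (getD_mem h b)

/-- The elements picked from a program in the three generators. -/
noncomputable def imgOf (prog : List (ℕ × ℕ)) (sel : List ℕ) : List Three.H :=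
  pick 1 (slpG prog (start3 Three.tH Three.bH Three.zH) 3) sel

theorem length_imgOf (prog : List (ℕ × ℕ)) (sel : List ℕ) : (imgOf prog sel).length = sel.length :=
  List.length_map _

variable {prog : List (ℕ × ℕ)} {sel : List ℕ} {C : List ℕ}

theorem enc_imgOf (hC : pick oneCode (slpN oneCode mmul prog CfsgLib.Co3Mult.base 3) sel = C) (i : ℕ) :
    md.enc ((imgOf prog sel).getD i 1) = C.getD i oneCode :=
  enc_pick md CfsgLib.Co3Mult.gens_enc hC i

theorem map_imgOf (hC : pick oneCode (slpN oneCode mmul prog CfsgLib.Co3Mult.base 3) sel = C) :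
    (imgOf prog sel).map md.enc = C := by
  have hl : C.length = sel.length := by rw [← hC]; exact List.length_map _
  refine List.ext_getElem (by rw [List.length_map, length_imgOf, hl]) fun i h1 h2 => ?_
  have e := enc_imgOf hC i
  rw [List.getD_eq_getElem _ _ (by simpa using h1), List.getD_eq_getElem _ _ h2] at e
  rw [List.getElem_map, e]

theorem enc_ev {L : List Three.H} (hL : L.map md.enc = C) (w : List ℕ) :
    md.enc (ev L w) = tab oneCode mmul C w := by
  induction w with
  | nil => rw [ev_nil]; exact md.enc_one
  | cons a w ih =>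
    rw [ev_cons, md.enc_mul, ih]
    show mmul (md.enc (L.getD a 1)) _ = _
    rw [← getD_map_enc, hL]
    rfl

theorem ev_eq_one {L : List Three.H} (hL : L.map md.enc = C) {R : List (List ℕ)}
    (h : (R.all fun w => tab oneCode mmul C w == oneCode) = true) {w : List ℕ} (hw : w ∈ R) : ev L w = 1 :=
  md.inj (by rw [enc_ev hL, md.enc_one]; exact beq_iff_eq.1 (List.all_eq_true.1 h w hw))

theorem ev_eq {L : List Three.H} (hL : L.map md.enc = C) {u w : List ℕ}
    (h : tab oneCode mmul C u = tab oneCode mmul C w) : ev L u = ev L w :=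
  md.inj (by rw [enc_ev hL, enc_ev hL, h])

theorem enc_gen : md.enc Three.tH = CfsgLib.Co3Mult.tCode ∧ md.enc Three.bH = CfsgLib.Co3Mult.bCode ∧
    md.enc Three.zH = CfsgLib.Co3Mult.zCode := by
  have h := CfsgLib.Co3Mult.gens_enc
  simp only [CfsgLib.Co3Mult.base, start3, DTree.map, DTree.node.injEq, and_true] at h
  exact h

/-- A program in the elements giving back the three generators shows that they generate. -/
theorem gen_of_back {L : List Three.H} (hL : L.map md.enc = C) {bwd : List (ℕ × ℕ)} {i j k : ℕ}
    (h : [i, j, k].map (fun a => (runN bwd C).getD a oneCode) =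
      [CfsgLib.Co3Mult.tCode, CfsgLib.Co3Mult.bCode, CfsgLib.Co3Mult.zCode]) :
    Subgroup.closure {x | x ∈ L} = ⊤ := by
  simp only [List.map_cons, List.map_nil, List.cons.injEq, and_true] at h
  obtain ⟨et, eb, ez⟩ := enc_gen
  have key : ∀ (g : Three.H) (a c : ℕ), md.enc g = c → (runN bwd C).getD a oneCode = c →
      g ∈ Subgroup.closure {x | x ∈ L} := by
    intro g a c hg ha
    rw [← ha, ← hL, ← map_run, show oneCode = md.one from rfl, getD_map_enc] at hg
    rw [md.inj hg]
    exact getD_mem (run_mem _ _ fun x hx => Subgroup.subset_closure hx) a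
  rw [eq_top_iff, ← Three.gen_top, Subgroup.closure_le]
  intro g hg
  rcases hg with rfl | rfl | rfl
  · exact key _ i _ et h.1
  · exact key _ j _ eb h.2.1
  · exact key _ k _ ez h.2.2

/-! ### The isomorphism -/

theorem ev_map {A K : Type*} [Group A] [Group K] (f : A →* K) (L : List A) (w : List ℕ) :
    ev (L.map f) w = f (ev L w) := by
  induction w with
  | nil => simp
  | cons a w ih =>
    rw [ev_cons, ev_cons, map_mul, ih]
    congr 1
    simp only [fl, List.getD_eq_getElem?_getD, List.getElem?_map]
    cases L[a]? <;> simp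

theorem closure_map_list {A K : Type*} [Group A] [Group K] (L : List A) (f : A →* K) :
    Subgroup.closure {x | x ∈ L.map f} = (Subgroup.closure {x | x ∈ L}).map f := by
  rw [MonoidHom.map_closure]
  congr 1
  ext x
  simp

/-- Paired lists satisfy the words that both satisfy. -/
theorem ev_zip {A K : Type*} [Group A] [Group K] {M : List A} {L : List K} (hl : M.length = L.length)
    {w : List ℕ} (hM : ev M w = 1) (hL : ev L w = 1) : ev (M.zip L) w = 1 := by
  refine Prod.ext ?_ ?_
  · show (MonoidHom.fst A K) (ev (M.zip L) w) = 1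
    rw [← ev_map, show (M.zip L).map (MonoidHom.fst A K) = M from List.map_fst_zip hl.le, hM]
  · show (MonoidHom.snd A K) (ev (M.zip L) w) = 1
    rw [← ev_map, show (M.zip L).map (MonoidHom.snd A K) = L from List.map_snd_zip hl.ge, hL]

theorem surj_of_gen {A K : Type*} [Group A] [Group K] (f : A →* K) {P : List A} {N : List K}
    (hN : P.map f = N) (hgen : Subgroup.closure {x | x ∈ N} = ⊤) :
    Function.Surjective (f.comp (Subgroup.closure {x | x ∈ P}).subtype) := by
  intro y
  have := hgen ▸ Subgroup.mem_top y
  rw [← hN, closure_map_list] at this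
  obtain ⟨x, hx, rfl⟩ := this
  exact ⟨⟨x, hx⟩, rfl⟩

theorem ev_mem_closure {A : Type*} [Group A] (L : List A) (w : List ℕ) :
    ev L w ∈ Subgroup.closure {x | x ∈ L} := by
  induction w with
  | nil => rw [ev_nil]; exact one_mem _
  | cons l w ih => rw [ev_cons]; exact mul_mem (mem_closure_fl l) ih

/-- A nontrivial group whose generators paired with generators of the third Conway group generate
a group of at most its order is the third Conway group, the generators corresponding. -/
theorem equiv_of_bound {G : Type*} [Group G] [Nontrivial G] {M : List Three.H} {L : List G}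
    (hl : M.length = L.length) (hMgen : Subgroup.closure {x | x ∈ M} = ⊤)
    (hgen : Subgroup.closure {x | x ∈ L} = ⊤)
    (hb : Finite (Subgroup.closure {x | x ∈ M.zip L} : Subgroup (Three.H × G)) ∧
      Nat.card (Subgroup.closure {x | x ∈ M.zip L} : Subgroup (Three.H × G)) ≤ 495766656000) :
    ∃ e : Three.H ≃* G, ∀ w, e (ev M w) = ev L w := by
  obtain ⟨hfin, hle⟩ := hb
  haveI := simple_H
  let f1 : (Subgroup.closure {x | x ∈ M.zip L} : Subgroup (Three.H × G)) →* Three.H :=
    (MonoidHom.fst Three.H G).comp (Subgroup.closure {x | x ∈ M.zip L}).subtype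
  let f2 : (Subgroup.closure {x | x ∈ M.zip L} : Subgroup (Three.H × G)) →* G :=
    (MonoidHom.snd Three.H G).comp (Subgroup.closure {x | x ∈ M.zip L}).subtype
  have s1 : Function.Surjective f1 := surj_of_gen _ (List.map_fst_zip hl.le) hMgen
  have s2 : Function.Surjective f2 := surj_of_gen _ (List.map_snd_zip hl.ge) hgen
  haveI := hfin
  have b1 : Function.Bijective f1 := (Nat.bijective_iff_surjective_and_card f1).2
    ⟨s1, le_antisymm (by rw [card_H]; exact hle) (Nat.card_le_card_of_surjective f1 s1)⟩
  let g : Three.H →* G := f2.comp (MulEquiv.ofBijective f1 b1).symm.toMonoidHom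
  have sg : Function.Surjective g := s2.comp (MulEquiv.ofBijective f1 b1).symm.surjective
  rcases (MonoidHom.normal_ker g).eq_bot_or_eq_top with hk | hk
  · refine ⟨MulEquiv.ofBijective g ⟨(MonoidHom.ker_eq_bot_iff g).1 hk, sg⟩, fun w => ?_⟩
    let x : (Subgroup.closure {x | x ∈ M.zip L} : Subgroup (Three.H × G)) := ⟨_, ev_mem_closure (M.zip L) w⟩
    have e1 : f1 x = ev M w := by
      show (MonoidHom.fst Three.H G) (ev (M.zip L) w) = _
      rw [← ev_map, show (M.zip L).map (MonoidHom.fst Three.H G) = M from List.map_fst_zip hl.le]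
    have e2 : f2 x = ev L w := by
      show (MonoidHom.snd Three.H G) (ev (M.zip L) w) = _
      rw [← ev_map, show (M.zip L).map (MonoidHom.snd Three.H G) = L from List.map_snd_zip hl.ge]
    show f2 ((MulEquiv.ofBijective f1 b1).symm (ev M w)) = ev L w
    rw [← e1, ← e2]
    exact congrArg f2 ((MulEquiv.ofBijective f1 b1).symm_apply_apply x)
  · exfalso
    obtain ⟨x, hx⟩ := exists_ne (1 : G)
    obtain ⟨y, rfl⟩ := sg x
    exact hx (MonoidHom.mem_ker.1 (hk ▸ Subgroup.mem_top y))

/-- A nontrivial group whose generators paired with generators of the third Conway group generate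
a group of at most its order is the third Conway group. -/
theorem iso_of_bound {G : Type*} [Group G] [Nontrivial G] {M : List Three.H} {L : List G}
    (hl : M.length = L.length) (hMgen : Subgroup.closure {x | x ∈ M} = ⊤)
    (hgen : Subgroup.closure {x | x ∈ L} = ⊤)
    (hb : Finite (Subgroup.closure {x | x ∈ M.zip L} : Subgroup (Three.H × G)) ∧
      Nat.card (Subgroup.closure {x | x ∈ M.zip L} : Subgroup (Three.H × G)) ≤ 495766656000) :
    Spor.IsoCo3 G :=
  have ⟨e, _⟩ := equiv_of_bound hl hMgen hgen hb
  ⟨e.symm.trans toSpor⟩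

end CfsgLib.Co3U.Image
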