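import Cfsg.Agent.Co3U.ImageBase
import Cfsg.Agent.Co3U.ImageData
import Cfsg.Agent.Co3U.ModelData
import Cfsg.Agent.Co3U.Glob.Rels

/-!
The eight letters in the third Conway group: they satisfy the relators and generate it, and an element of
order five commutes with the images of `c` and `y`; a nontrivial group generated by eight elements
satisfying the relators is the third Conway group, given the bound on such groups.
-/

set_option autoImplicit false
set_option maxRecDepth 100000
set_option Elab.async false

namespace CfsgLib.Co3U.Image

open Cfsg CfsgLib.Coset CfsgLib.Co0Model CfsgLib.OutConway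
open CfsgLib.CentralCert (Model tab)

/-- A letter of the local model as a word in the eight letters. -/
def locW (n : Nat) : List Nat :=
  if n < 6 then Glob.gensW.getD n [] else (Glob.gensW.getD (n - 6) []).reverse.map Glob.iv8

/-- `c` as a word in the eight letters. -/
def cW : List Nat := Co3U.Data.wordC.flatMap locW

/-- `y` as a word in the eight letters. -/
def yW : List Nat := Co3U.Data.wordY.flatMap locW

/-- The images of the eight letters. -/
noncomputable def imgL : List Three.H := imgOf fwdP fwdSel

/-- The element of order five. -/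
noncomputable def fiveG : Three.H := (imgOf fwdP [fiveSel]).getD 0 1

attribute [local irreducible] slpN slpG mmul oneCode CfsgLib.Leech.shortVecs CfsgLib.Leech.halfTable
  CfsgLib.Leech.quarterTable

theorem fwd_ok : pick oneCode (slpN oneCode mmul fwdP CfsgLib.Co3Mult.base 3) fwdSel = letterCodes := by
  decide +kernel

theorem five_ok : pick oneCode (slpN oneCode mmul fwdP CfsgLib.Co3Mult.base 3) [fiveSel] = [fiveCode] := by
  decide +kernel

theorem map_imgL : imgL.map md.enc = letterCodes := map_imgOf fwd_ok

theorem length_imgL : imgL.length = 8 := (length_imgOf _ _).trans rfl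

theorem bwd_ok : bwdSel.map (fun a => (runN bwdP letterCodes).getD a oneCode) =
    [CfsgLib.Co3Mult.tCode, CfsgLib.Co3Mult.bCode, CfsgLib.Co3Mult.zCode] := by decide +kernel

/-- The letters generate. -/
theorem gen_imgL : Subgroup.closure {x | x ∈ imgL} = ⊤ := by
  obtain ⟨i, j, k, h⟩ : ∃ i j k, bwdSel = [i, j, k] := ⟨_, _, _, rfl⟩
  exact gen_of_back map_imgL (h ▸ bwd_ok)

theorem five_checks : tab oneCode mmul [fiveCode] [0, 0, 0, 0, 0] = oneCode ∧ fiveCode ≠ oneCode ∧
    mmul fiveCode (tab oneCode mmul letterCodes cW) =
      mmul (tab oneCode mmul letterCodes cW) fiveCode ∧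
    mmul fiveCode (tab oneCode mmul letterCodes yW) =
      mmul (tab oneCode mmul letterCodes yW) fiveCode := by decide +kernel

theorem enc_five : md.enc fiveG = fiveCode := enc_imgOf five_ok 0

/-- An element of order five commuting with the images of `c` and `y`. -/
theorem exists_five : ∃ x : Three.H, orderOf x = 5 ∧ Commute x (ev imgL cW) ∧
    Commute x (ev imgL yW) := by
  obtain ⟨h5, hne, hc, hy⟩ := five_checks
  have hev : ev [fiveG] [0, 0, 0, 0, 0] = fiveG ^ 5 := by
    simp [ev_cons, fl, pow_succ, mul_assoc]
  refine ⟨fiveG, ?_, md.inj ?_, md.inj ?_⟩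
  · have : Fact (Nat.Prime 5) := ⟨by norm_num⟩
    refine orderOf_eq_prime ?_ fun h => hne ?_
    · refine md.inj ?_
      rw [← hev, enc_ev (C := [fiveCode]) (by simp [enc_five]), h5, md.enc_one]
      rfl
    · rw [← enc_five, h, md.enc_one]
      rfl
  · rw [md.enc_mul, md.enc_mul, enc_five, enc_ev map_imgL]
    exact hc
  · rw [md.enc_mul, md.enc_mul, enc_five, enc_ev map_imgL]
    exact hy

theorem rels_ok : (Glob.rels8.all fun w => tab oneCode mmul letterCodes w == oneCode) = true := by
  decide +kernel

/-- The images satisfy the relators. -/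
theorem rels_imgL : Glob.Rels8 imgL :=
  ⟨length_imgL, fun _ hw => ev_eq_one map_imgL rels_ok hw⟩

/-- A nontrivial group generated by eight elements satisfying the relators is the third Conway group,
if lists satisfying them generate groups of at most its order. -/
theorem iso_co3 {G : Type*} [Group G] [Nontrivial G] {L : List G} (h : Glob.Rels8 L)
    (hgen : Subgroup.closure {x | x ∈ L} = ⊤)
    (hb : ∀ P : List (Three.H × G), Glob.Rels8 P → Finite (Subgroup.closure {x | x ∈ P}) ∧
      Nat.card (Subgroup.closure {x | x ∈ P} : Subgroup (Three.H × G)) ≤ 495766656000) :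
    Spor.IsoCo3 G :=
  have hl : imgL.length = L.length := length_imgL.trans h.len.symm
  iso_of_bound hl gen_imgL hgen (hb _
    ⟨by rw [List.length_zip, hl, min_self, h.len],
      fun w hw => ev_zip hl (rels_imgL.rel w hw) (h.rel w hw)⟩)

end CfsgLib.Co3U.Image
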