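import Mathlib

/-!
What the recognition of the third Conway group uses about the centralizer `C(t) ≅ 2·Sp₆(2)` of an involution:
besides `t` there are two classes of involutions in it, with representatives `s` (630 elements) and `c` (7560 elements),
the pairs of the second kind with product of the second kind, and a piece of the centralizer of such a pair.
-/

set_option autoImplicit false

namespace CfsgLib.Co3U

open Subgroup

variable {G : Type*} [Group G]

/-- Conjugate by an element of the centralizer of `t`. -/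
def ConjIn (t a b : G) : Prop := ∃ h ∈ centralizer ({t} : Set G), h * a * h⁻¹ = b

/-- The local facts at an involution with centralizer `2·Sp₆(2)`. -/
structure Loc (t s c y w : G) : Prop where
  ord_t : orderOf t = 2
  ord_s : orderOf s = 2
  ord_c : orderOf c = 2
  ord_y : orderOf y = 2
  ord_w : orderOf w = 2
  comm_s : Commute t s
  comm_c : Commute t c
  comm_y : Commute t y
  comm_w : Commute t w
  comm_cy : Commute c y
  card_cent : Nat.card (centralizer ({t} : Set G)) = 2903040
  classes : ∀ x ∈ centralizer ({t} : Set G), orderOf x = 2 → x = t ∨ ConjIn t s x ∨ ConjIn t c x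
  s_ne : ¬ ConjIn t s c
  /-- `t` is a square in the centralizer of `s`. -/
  sq_s : ∃ k ∈ centralizer ({t} : Set G), Commute k s ∧ k * k = t
  sq_t_c : ∃ k ∈ centralizer ({t} : Set G), Commute k c ∧ k * k = t
  /-- `c` is no square. -/
  sq_c : ∀ x ∈ centralizer ({t} : Set G), x * x ≠ c
  /-- A Sylow two-subgroup with `t` as its only central involution. -/
  sylow : ∃ T : Subgroup G, T ≤ centralizer ({t} : Set G) ∧ Nat.card T = 1024 ∧
    ∀ x ∈ T, orderOf x = 2 → (∀ u ∈ T, Commute x u) → x = t
  y_c : ConjIn t c y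
  cy_c : ConjIn t c (c * y)
  pairs : ∀ c' ∈ centralizer ({t} : Set G), ∀ y' ∈ centralizer ({t} : Set G), Commute c' y' →
    ConjIn t c c' → ConjIn t c y' → ConjIn t c (c' * y') →
    ∃ h ∈ centralizer ({t} : Set G), h * c * h⁻¹ = c' ∧ (h * y * h⁻¹ = y' ∨ h * y * h⁻¹ = c' * y')
  /-- The centralizer of the pair in `C(t)` has order thirty-two. -/
  card_pair : Nat.card (centralizer ({t} : Set G) ⊓ centralizer ({c} : Set G) ⊓ centralizer ({y} : Set G) :
    Subgroup G) = 32
  comm_wc : Commute w c
  comm_wy : Commute w y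
  /-- The coset of `w` modulo the pair holds no conjugate of `t` or `s`. -/
  w_coset : ConjIn t c w ∧ ConjIn t c (c * w) ∧ ConjIn t c (y * w) ∧ ConjIn t c (c * y * w)
  /-- An index two subgroup of that centralizer avoiding `w` in which every coset off the pair holds a
  unique conjugate of `t` or `s`; some element of it is moved by `w` through the coset of `t`. -/
  half : ∃ A : Subgroup G, A ≤ centralizer ({t} : Set G) ⊓ centralizer ({c} : Set G) ⊓ centralizer ({y} : Set G) ∧
    Nat.card A = 16 ∧ c ∈ A ∧ y ∈ A ∧ t ∈ A ∧ w ∉ A ∧ (∀ a ∈ A, ∀ b ∈ A, Commute a b) ∧ (∀ a ∈ A, a * a = 1) ∧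
      (∀ a ∈ A, a ∉ ({1, c, y, c * y} : Set G) →
        ∃! d : G, d ∈ ({a, c * a, y * a, c * y * a} : Set G) ∧ (d = t ∨ ConjIn t s d)) ∧
      ∃ a ∈ A, w * a * w⁻¹ * a⁻¹ ∈ ({t, c * t, y * t, c * y * t} : Set G)

end CfsgLib.Co3U
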