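import Mathlib.Data.ZMod.Basic
import Mathlib.LinearAlgebra.Matrix.GeneralLinearGroup.Defs
import Mathlib.Data.Matrix.Mul
import Mathlib.Data.Nat.Bitwise

/-!
# Eight by eight matrices over the field with three elements as two masks, and search trees of them

A matrix is the mask of its entries one and the mask of its entries minus one; a list of codes describes a
spanning tree, from which orbits and subgroups are recomputed.
-/

set_option autoImplicit false

namespace CfsgLib.Co3U.Mat

/-- A matrix as two masks. -/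
abbrev St := ℕ × ℕ

/-- Sum of masks entry by entry. -/
def add (S T : St) : St :=
  ((((S.1 ||| (T.1 ||| T.2)) ^^^ (T.1 ||| T.2)) ||| ((T.1 ||| (S.1 ||| S.2)) ^^^ (S.1 ||| S.2))) |||
      (S.2 &&& T.2),
    (((S.2 ||| (T.1 ||| T.2)) ^^^ (T.1 ||| T.2)) ||| ((T.2 ||| (S.1 ||| S.2)) ^^^ (S.1 ||| S.2))) |||
      (S.1 &&& T.1))

/-- The first column of each row. -/
def colMask : ℕ := 72340172838076673

/-- The product of the column `k` of the first matrix and the row `k` of the second. -/
def term (A B : St) (k : ℕ) : St :=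
  ((((A.1 >>> k) &&& colMask) * ((B.1 >>> (8 * k)) &&& 255)) |||
      (((A.2 >>> k) &&& colMask) * ((B.2 >>> (8 * k)) &&& 255)),
    (((A.1 >>> k) &&& colMask) * ((B.2 >>> (8 * k)) &&& 255)) |||
      (((A.2 >>> k) &&& colMask) * ((B.1 >>> (8 * k)) &&& 255)))

/-- Product. -/
def mul (A B : St) : St :=
  add (add (add (term A B 0) (term A B 1)) (add (term A B 2) (term A B 3)))
    (add (add (term A B 4) (term A B 5)) (add (term A B 6) (term A B 7)))

/-- The identity. -/
def one : St := (9241421688590303745, 0)

/-- The value of an entry. -/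
def g3 (p m : Bool) : ZMod 3 := if p then 1 else if m then -1 else 0

/-- An entry. -/
def val (S : St) (i j : ℕ) : ZMod 3 := g3 (S.1.testBit (8 * i + j)) (S.2.testBit (8 * i + j))

/-- Only one mask at each of the sixty-four places, none beyond. -/
def Ok (S : St) : Prop :=
  ∀ k, (S.1.testBit k && S.2.testBit k) = false ∧ (64 ≤ k → S.1.testBit k = false ∧ S.2.testBit k = false)

/-- The matrix. -/
def toM (S : St) : Matrix (Fin 8) (Fin 8) (ZMod 3) := Matrix.of fun i j => val S i j

theorem bit_add : ∀ p m x y : Bool, (p && m) = false → (x && y) = false →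
    g3 (((p || (x || y)) ^^ (x || y) || (x || (p || m)) ^^ (p || m)) || (m && y))
        (((m || (x || y)) ^^ (x || y) || (y || (p || m)) ^^ (p || m)) || (p && x)) = g3 p m + g3 x y ∧
      ((((p || (x || y)) ^^ (x || y) || (x || (p || m)) ^^ (p || m)) || (m && y)) &&
        (((m || (x || y)) ^^ (x || y) || (y || (p || m)) ^^ (p || m)) || (p && x))) = false := by
  decide

theorem ok_add {S T : St} (hS : Ok S) (hT : Ok T) : Ok (add S T) := fun k => by
  simp only [add, Nat.testBit_lor, Nat.testBit_land, Nat.testBit_xor]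
  refine ⟨(bit_add _ _ _ _ (hS k).1 (hT k).1).2, fun hk => ?_⟩
  obtain ⟨a, b⟩ := (hS k).2 hk
  obtain ⟨c, d⟩ := (hT k).2 hk
  simp [a, b, c, d]

theorem val_add {S T : St} (hS : Ok S) (hT : Ok T) (i j : ℕ) : val (add S T) i j = val S i j + val T i j := by
  simp only [val, add, Nat.testBit_lor, Nat.testBit_land, Nat.testBit_xor]
  exact (bit_add _ _ _ _ (hS _).1 (hT _).1).1

/-- The mask with the bytes' first places from a list. -/
def spread : List Bool → ℕ
  | [] => 0
  | b :: l => b.toNat + 2 ^ 8 * spread l

theorem spread_mul_bit : ∀ (l : List Bool) (r : ℕ), r < 256 → ∀ i j, j < 8 →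
    (spread l * r).testBit (8 * i + j) = (l.getD i false && r.testBit j) := by
  intro l
  induction l with
  | nil => intro r _ i j _; simp [spread]
  | cons b l ih =>
    intro r hr i j hj
    have hb : b.toNat * r < 2 ^ 8 := by cases b <;> simp [hr]
    rw [spread, add_mul, mul_assoc, add_comm, Nat.testBit_two_pow_mul_add _ hb]
    cases i with
    | zero =>
      rw [if_pos (by omega)]
      cases b <;> simp
    | succ i =>
      rw [if_neg (by omega), show 8 * (i + 1) + j - 8 = 8 * i + j by omega, ih r hr i j hj]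
      simp

theorem spread_bit : ∀ (l : List Bool) (n : ℕ),
    (spread l).testBit n = (decide (n % 8 = 0) && l.getD (n / 8) false) := by
  intro l n
  have h := spread_mul_bit l 1 (by norm_num) (n / 8) (n % 8) (Nat.mod_lt _ (by norm_num))
  rw [mul_one, Nat.div_add_mod] at h
  rw [h, Bool.and_comm]
  congr 1
  rw [← pow_zero 2, Nat.testBit_two_pow]
  exact decide_eq_decide.2 eq_comm

theorem colMask_eq : colMask = spread (List.replicate 8 true) := by decide

theorem spread_of_mask (M k : ℕ) :
    (M >>> k) &&& colMask = spread ((List.range 8).map fun i => M.testBit (k + 8 * i)) := by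
  refine Nat.eq_of_testBit_eq fun n => ?_
  rw [Nat.testBit_land, Nat.testBit_shiftRight, colMask_eq, spread_bit, spread_bit]
  by_cases hn : n % 8 = 0
  · by_cases h8 : n / 8 < 8
    · rw [List.getD_eq_getElem _ _ (by simpa using h8), List.getD_eq_getElem _ _ (by simpa using h8),
        List.getElem_replicate]
      simp [hn, show 8 * (n / 8) = n by omega]
    · rw [List.getD_eq_default _ _ (by simp; omega), List.getD_eq_default _ _ (by simp; omega)]
      simp
  · simp [hn]

theorem term_bit (M N k i j : ℕ) (_hk : k < 8) (hj : j < 8) :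
    (((M >>> k) &&& colMask) * ((N >>> (8 * k)) &&& 255)).testBit (8 * i + j) =
      ((decide (i < 8) && M.testBit (8 * i + k)) && N.testBit (8 * k + j)) := by
  rw [spread_of_mask, spread_mul_bit _ _ (Nat.lt_of_le_of_lt Nat.and_le_right (by norm_num)) i j hj,
    Nat.testBit_land, Nat.testBit_shiftRight]
  have h255 : (255 : ℕ).testBit j = true := by
    rw [show (255 : ℕ) = 2 ^ 8 - 1 by norm_num, Nat.testBit_two_pow_sub_one]; simpa using hj
  rw [h255, Bool.and_true]
  congr 1
  by_cases hi : i < 8
  · rw [List.getD_eq_getElem _ _ (by simpa using hi)]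
    simp [hi, add_comm k]
  · rw [List.getD_eq_default _ _ (by simp; omega)]
    simp [hi]

theorem val_term {A B : St} (hA : Ok A) (hB : Ok B) {k : ℕ} (hk : k < 8) :
    Ok (term A B k) ∧ ∀ i j, i < 8 → j < 8 → val (term A B k) i j = val A i k * val B k j := by
  have key : ∀ p m x y : Bool, (p && m) = false → (x && y) = false →
      g3 ((p && x) || (m && y)) ((p && y) || (m && x)) = g3 p m * g3 x y ∧
        ((((p && x) || (m && y)) && ((p && y) || (m && x))) = false) := by decide
  refine ⟨fun n => ?_, fun i j hi hj => ?_⟩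
  · obtain ⟨i, j, hj, rfl⟩ : ∃ i j, j < 8 ∧ n = 8 * i + j := ⟨n / 8, n % 8, Nat.mod_lt _ (by norm_num), by omega⟩
    simp only [term, Nat.testBit_lor, term_bit _ _ _ _ _ hk hj]
    by_cases hi : i < 8
    · simp only [hi, decide_true, Bool.true_and]
      exact ⟨(key _ _ _ _ (hA _).1 (hB _).1).2, fun h => absurd h (by omega)⟩
    · simp [hi]
  · simp only [term, val, Nat.testBit_lor, term_bit _ _ _ _ _ hk hj, hi, decide_true, Bool.true_and]
    exact (key _ _ _ _ (hA _).1 (hB _).1).1

theorem mul_spec {A B : St} (hA : Ok A) (hB : Ok B) : Ok (mul A B) ∧ toM (mul A B) = toM A * toM B := by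
  have h := fun k (hk : k < 8) => val_term hA hB hk
  have o01 := ok_add (h 0 (by norm_num)).1 (h 1 (by norm_num)).1
  have o23 := ok_add (h 2 (by norm_num)).1 (h 3 (by norm_num)).1
  have o45 := ok_add (h 4 (by norm_num)).1 (h 5 (by norm_num)).1
  have o67 := ok_add (h 6 (by norm_num)).1 (h 7 (by norm_num)).1
  refine ⟨ok_add (ok_add o01 o23) (ok_add o45 o67), ?_⟩
  ext i j
  have e := fun k (hk : k < 8) => (h k hk).2 (i : ℕ) (j : ℕ) i.2 j.2
  rw [Matrix.mul_apply]
  simp only [toM, Matrix.of_apply, mul]
  rw [val_add (ok_add o01 o23) (ok_add o45 o67), val_add o01 o23, val_add o45 o67,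
    val_add (h 0 (by norm_num)).1 (h 1 (by norm_num)).1, val_add (h 2 (by norm_num)).1 (h 3 (by norm_num)).1,
    val_add (h 4 (by norm_num)).1 (h 5 (by norm_num)).1, val_add (h 6 (by norm_num)).1 (h 7 (by norm_num)).1,
    e 0 (by norm_num), e 1 (by norm_num), e 2 (by norm_num), e 3 (by norm_num), e 4 (by norm_num),
    e 5 (by norm_num), e 6 (by norm_num), e 7 (by norm_num), Fin.sum_univ_eight]
  simp only [add_assoc]
  rfl

theorem ext_of_toM {S T : St} (hS : Ok S) (hT : Ok T) (h : toM S = toM T) : S = T := by
  have key : ∀ p m x y : Bool, (p && m) = false → (x && y) = false → g3 p m = g3 x y → p = x ∧ m = y := by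
    decide
  have hb : ∀ n, S.1.testBit n = T.1.testBit n ∧ S.2.testBit n = T.2.testBit n := fun n => by
    by_cases hn : n < 64
    · have e := congrFun (congrFun h ⟨n / 8, by omega⟩) ⟨n % 8, Nat.mod_lt _ (by norm_num)⟩
      simp only [toM, Matrix.of_apply, val, Nat.div_add_mod] at e
      exact key _ _ _ _ (hS n).1 (hT n).1 e
    · obtain ⟨a, b⟩ := (hS n).2 (by omega)
      obtain ⟨c, d⟩ := (hT n).2 (by omega)
      exact ⟨a.trans c.symm, b.trans d.symm⟩
  exact Prod.ext (Nat.eq_of_testBit_eq fun n => (hb n).1) (Nat.eq_of_testBit_eq fun n => (hb n).2)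

/-- A representative of an invertible matrix. -/
def Rep (S : St) (g : GL (Fin 8) (ZMod 3)) : Prop :=
  Ok S ∧ toM S = (g : Matrix (Fin 8) (Fin 8) (ZMod 3))

theorem Rep.mul {S T : St} {g h : GL (Fin 8) (ZMod 3)} (hS : Rep S g) (hT : Rep T h) :
    Rep (Mat.mul S T) (g * h) := by
  obtain ⟨o, e⟩ := mul_spec hS.1 hT.1
  exact ⟨o, by rw [e, hS.2, hT.2]; rfl⟩

theorem Rep.unique {S T : St} {g : GL (Fin 8) (ZMod 3)} (hS : Rep S g) (hT : Rep T g) : S = T :=
  ext_of_toM hS.1 hT.1 (hS.2.trans hT.2.symm)

theorem Rep.inj {S : St} {g h : GL (Fin 8) (ZMod 3)} (hg : Rep S g) (hh : Rep S h) : g = h :=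
  Units.ext (hg.2.symm.trans hh.2)

theorem rep_one : Rep one 1 := by
  refine ⟨fun k => ⟨by simp [one], fun hk => ⟨Nat.testBit_lt_two_pow ?_, by simp [one]⟩⟩, ?_⟩
  · exact lt_of_lt_of_le (show one.1 < 2 ^ 64 by decide) (Nat.pow_le_pow_right (by norm_num) hk)
  · show toM one = 1
    decide +kernel

/-- A bound check giving `Ok`. -/
def okB (S : St) : Bool := Nat.blt S.1 18446744073709551616 && Nat.blt S.2 18446744073709551616 &&
  Nat.beq (S.1 &&& S.2) 0

theorem ok_of_okB {S : St} (h : okB S = true) : Ok S := by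
  simp only [okB, Bool.and_eq_true, Nat.blt_eq] at h
  obtain ⟨⟨h1, h2⟩, h3⟩ := h
  have h3' : S.1 &&& S.2 = 0 := Nat.eq_of_beq_eq_true h3
  exact fun k => ⟨by rw [← Nat.testBit_land, h3', Nat.zero_testBit], fun hk =>
    ⟨Nat.testBit_lt_two_pow (h1.trans_le (le_trans (by norm_num) (Nat.pow_le_pow_right two_pos hk))),
      Nat.testBit_lt_two_pow (h2.trans_le (le_trans (by norm_num) (Nat.pow_le_pow_right two_pos hk)))⟩⟩

/-- The key of a matrix. -/
def key (S : St) : ℕ := S.1 * 18446744073709551616 + S.2

/-- The matrix of a key. -/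
def unkey (n : ℕ) : St := (n / 18446744073709551616, n % 18446744073709551616)

theorem unkey_key {S : St} (h : Ok S) : unkey (key S) = S := by
  have h2 : S.2 < 18446744073709551616 := by
    refine lt_of_lt_of_eq (Nat.lt_pow_two_of_testBit (n := 64) S.2 fun i hi => ((h i).2 hi).2) ?_
    norm_num
  refine Prod.ext ?_ ?_
  · show (S.1 * 18446744073709551616 + S.2) / 18446744073709551616 = S.1
    omega
  · show (S.1 * 18446744073709551616 + S.2) % 18446744073709551616 = S.2
    omega

/-- Search trees of keys. -/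
inductive Bst where
  | leaf : Bst
  | node : Bst → ℕ → Bst → Bst

/-- Insertion. -/
def Bst.ins (x : ℕ) : Bst → Bst
  | .leaf => .node .leaf x .leaf
  | .node l k r => bif Nat.blt x k then .node (l.ins x) k r else bif Nat.blt k x then .node l k (r.ins x) else .node l k r

/-- Membership. -/
def Bst.has (x : ℕ) : Bst → Bool
  | .leaf => false
  | .node l k r => bif Nat.blt x k then l.has x else bif Nat.blt k x then r.has x else Nat.beq x k

/-- The keys in order. -/
def Bst.toList : Bst → List ℕ
  | .leaf => []
  | .node l k r => l.toList ++ k :: r.toList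

theorem Bst.mem_ins {x y : ℕ} : ∀ {b : Bst}, y ∈ (b.ins x).toList → y = x ∨ y ∈ b.toList := by
  intro b
  induction b with
  | leaf => simp [Bst.ins, Bst.toList]
  | node l k r ihl ihr =>
    intro h
    simp only [Bst.ins] at h
    cases h1 : Nat.blt x k with
    | true =>
      simp only [h1, cond_true, Bst.toList, List.mem_append, List.mem_cons] at h ⊢
      rcases h with h | h | h
      · exact (ihl h).imp id Or.inl
      · exact Or.inr (Or.inr (Or.inl h))
      · exact Or.inr (Or.inr (Or.inr h))
    | false =>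
      cases h2 : Nat.blt k x with
      | true =>
        simp only [h1, h2, cond_true, cond_false, Bst.toList, List.mem_append, List.mem_cons] at h ⊢
        rcases h with h | h | h
        · exact Or.inr (Or.inl h)
        · exact Or.inr (Or.inr (Or.inl h))
        · exact (ihr h).imp id fun e => Or.inr (Or.inr e)
      | false =>
        simp only [h1, h2, cond_false] at h
        exact Or.inr h

theorem Bst.mem_of_has {x : ℕ} : ∀ {b : Bst}, b.has x = true → x ∈ b.toList := by
  intro b
  induction b with
  | leaf => simp [Bst.has]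
  | node l k r ihl ihr =>
    intro h
    simp only [Bst.has] at h
    simp only [Bst.toList, List.mem_append, List.mem_cons]
    cases h1 : Nat.blt x k <;> cases h2 : Nat.blt k x <;> simp only [h1, h2, cond_true, cond_false] at h
    all_goals first
      | exact Or.inr (Or.inl (Nat.eq_of_beq_eq_true h))
      | exact Or.inl (ihl h)
      | exact Or.inr (Or.inr (ihr h))

/-- Strictly increasing. -/
def incB : List ℕ → Bool
  | [] => true
  | [_] => true
  | a :: b :: l => Nat.blt a b && incB (b :: l)

theorem nodup_of_incB : ∀ {l : List ℕ}, incB l = true → l.Pairwise (· < ·) := by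
  intro l
  induction l with
  | nil => simp
  | cons a l ih =>
    cases l with
    | nil => simp
    | cons b l =>
      intro h
      simp only [incB, Bool.and_eq_true, Nat.blt_eq] at h
      have hp := ih h.2
      rw [List.pairwise_cons]
      refine ⟨fun x hx => ?_, hp⟩
      rcases List.mem_cons.1 hx with rfl | hx
      · exact h.1
      · exact h.1.trans ((List.pairwise_cons.1 hp).1 x hx)

/-- The thirty-two codes of a chunk. -/
def unpack (n : ℕ) : ℕ → List ℕ
  | 0 => []
  | k + 1 => (n % 256) :: unpack (n / 256) k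

/-- The codes of chunks. -/
def decode : List ℕ → ℕ → List ℕ
  | [], _ => []
  | n :: l, k => bif Nat.blt k 33 then unpack n k else unpack n 32 ++ decode l (k - 32)

/-- Walking the spanning tree: a code pops some ancestors and takes one step. -/
def walk (f : St → ℕ → St) : List ℕ → List St → Bst → Bst
  | [], _, b => b
  | cd :: l, stk, b =>
    match stk.drop (cd / 8) with
    | [] => b
    | p :: rest => walk f l (f p (cd % 8) :: p :: rest) (b.ins (key (f p (cd % 8))))

/-- The tree of all the matrices reached. -/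
def reach (f : St → ℕ → St) (root : St) (l : List ℕ) : Bst := walk f l [root] (Bst.leaf.ins (key root))

theorem walk_spec {f : St → ℕ → St} {Q : St → Prop} (hf : ∀ S i, Q S → Q (f S i)) :
    ∀ (l : List ℕ) (stk : List St) (b : Bst), (∀ S ∈ stk, Q S) →
      (∀ x ∈ b.toList, ∃ S, Q S ∧ key S = x) → ∀ x ∈ (walk f l stk b).toList, ∃ S, Q S ∧ key S = x := by
  intro l
  induction l with
  | nil => exact fun _ _ _ hb => hb
  | cons cd l ih =>
    intro stk b hs hb
    rw [walk]
    split
    · exact hb
    · rename_i p rest e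
      have hmem : ∀ S ∈ p :: rest, Q S := fun S hS => hs S (List.mem_of_mem_drop (e ▸ hS))
      have hq := hf p (cd % 8) (hmem p List.mem_cons_self)
      refine ih _ _ ?_ ?_
      · intro S hS
        rcases List.mem_cons.1 hS with rfl | hS
        exacts [hq, hmem S hS]
      · intro x hx
        rcases Bst.mem_ins hx with rfl | hx
        exacts [⟨_, hq, rfl⟩, hb x hx]

theorem reach_spec {f : St → ℕ → St} {Q : St → Prop} (hf : ∀ S i, Q S → Q (f S i)) {root : St} (hr : Q root)
    {l : List ℕ} {x : ℕ} (hx : x ∈ (reach f root l).toList) : ∃ S, Q S ∧ key S = x :=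
  walk_spec hf l [root] _ (by simp [hr]) (fun y hy => by
    rcases Bst.mem_ins hy with rfl | hy
    · exact ⟨root, hr, rfl⟩
    · simp [Bst.toList] at hy) x hx

/-- The evaluation of a word. -/
def evW (gs : List St) (w : List ℕ) : St := w.foldl (fun S i => mul S (gs.getD i one)) one

theorem rep_evW {gs : List St} {H : Subgroup (GL (Fin 8) (ZMod 3))}
    (hgs : ∀ i, ∃ g ∈ H, Rep (gs.getD i one) g) (w : List ℕ) : ∃ g ∈ H, Rep (evW gs w) g := by
  have : ∀ (w : List ℕ) (S : St), (∃ g ∈ H, Rep S g) →
      ∃ g ∈ H, Rep (w.foldl (fun S i => mul S (gs.getD i one)) S) g := by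
    intro w
    induction w with
    | nil => exact fun _ h => h
    | cons i w ih =>
      rintro S ⟨g, hg, hS⟩
      obtain ⟨k, hk, hi⟩ := hgs i
      exact ih _ ⟨g * k, mul_mem hg hk, hS.mul hi⟩
  exact this w one ⟨1, one_mem _, rep_one⟩

end CfsgLib.Co3U.Mat
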