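import Cfsg.Agent.Co3U.Fusion
import Cfsg.Agent.Co3U.FourGroup
import Cfsg.Agent.Invol.ThompsonTransfer

/-!
# The centralizer of a pair of commuting conjugates of `c` with product conjugate to `c`

Modulo the pair it is dihedral-by-odd with an index two subgroup in which every involution centralizer is a
four group, so it lies in any subgroup containing `C(t)` and an element of order five of it.
-/

set_option autoImplicit false
set_option linter.style.haveILetI false

namespace CfsgLib.Co3U

open Subgroup MulAction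

section Transfer

open CfsgLib.ThompsonTransfer

variable {G : Type*} [Group G]

/-- The kernel of a transfer to an index two subgroup of a subgroup of odd index. -/
theorem exists_transfer_kernel [Finite G] (P Q : Subgroup G) (hP : Odd P.index) (hQi : Q.relIndex P = 2)
    {u₀ : G} (hu₀ : u₀ * u₀ = 1) (hu₀' : ∀ g : G, g * u₀ * g⁻¹ ∉ Q) :
    ∃ M : Subgroup G, M.Normal ∧ M.index = 2 ∧ u₀ ∉ M ∧
      ∀ u : G, u * u = 1 → (∀ g : G, g * u * g⁻¹ ∈ P → g * u * g⁻¹ ∈ Q) → u ∈ M := by
  classical
  set φ := parity (Q.subgroupOf P) hQi with hφ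
  set a : Multiplicative (ZMod 2) := Multiplicative.ofAdd 1 with ha
  have ha1 : a ≠ 1 := by decide
  have ha2 : a * a = 1 := by decide
  haveI : P.FiniteIndex := inferInstance
  have hd : ∀ u : G, u * u = 1 → ∀ q : Quotient (orbitRel (zpowers u) (G ⧸ P)),
      Function.minimalPeriod (u • ·) q.out ∣ 2 := fun u hu q => by
    refine Function.IsPeriodicPt.minimalPeriod_dvd ?_
    show (u • ·)^[2] q.out = q.out
    rw [Function.iterate_succ_apply', Function.iterate_one, smul_smul, hu, one_smul]
  have hin : ∀ u : G, u * u = 1 → (∀ g : G, g * u * g⁻¹ ∈ P → g * u * g⁻¹ ∈ Q) →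
      MonoidHom.transfer φ u = 1 := by
    intro u hu hu'
    haveI : Fintype (Quotient (orbitRel (zpowers u) (G ⧸ P))) := Fintype.ofFinite _
    rw [MonoidHom.transfer_eq_prod_quotient_orbitRel_zpowers_quot φ u]
    refine Finset.prod_eq_one fun q _ => ?_
    rcases (Nat.dvd_prime Nat.prime_two).1 (hd u hu q) with e | e
    · refine parity_apply_mem hQi ?_
      rw [mem_subgroupOf]
      simp only [e, pow_one]
      have hP' : (q.out.out)⁻¹ * u * q.out.out ∈ P := by
        have h := Function.minimalPeriod_eq_one_iff_isFixedPt.1 e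
        have h' : u • q.out = q.out := h
        rw [← Quotient.out_eq' q.out] at h'
        have h2 : ((u * q.out.out : G) : G ⧸ P) = ((q.out.out : G) : G ⧸ P) := h'
        rw [QuotientGroup.eq] at h2
        have := inv_mem h2
        rwa [show ((u * q.out.out)⁻¹ * q.out.out)⁻¹ = (q.out.out)⁻¹ * u * q.out.out by group] at this
      have := hu' (q.out.out)⁻¹ (by rwa [inv_inv])
      rwa [inv_inv] at this
    · refine parity_apply_mem hQi ?_
      rw [mem_subgroupOf]
      simp [e, sq, hu]
  have key : MonoidHom.transfer φ u₀ = a := by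
    haveI : Fintype (Quotient (orbitRel (zpowers u₀) (G ⧸ P))) := Fintype.ofFinite _
    rw [MonoidHom.transfer_eq_prod_quotient_orbitRel_zpowers_quot φ u₀]
    calc ∏ q : Quotient (orbitRel (zpowers u₀) (G ⧸ P)), _
        = ∏ q : Quotient (orbitRel (zpowers u₀) (G ⧸ P)), a ^ Function.minimalPeriod (u₀ • ·) q.out := by
          refine Finset.prod_congr rfl fun q _ => ?_
          rcases (Nat.dvd_prime Nat.prime_two).1 (hd u₀ hu₀ q) with e | e
          · refine (parity_apply_not_mem hQi fun hmem => ?_).trans (by rw [e, pow_one])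
            rw [mem_subgroupOf] at hmem
            simp only [e, pow_one] at hmem
            exact hu₀' (q.out.out)⁻¹ (by rwa [inv_inv])
          · refine (parity_apply_mem hQi ?_).trans (by rw [e, sq a, ha2])
            rw [mem_subgroupOf]
            simp [e, sq, hu₀]
      _ = a ^ P.index := by rw [Finset.prod_pow_eq_pow_sum, ← index_eq_sum_minimalPeriod P u₀]
      _ = a := by
          obtain ⟨k, hk⟩ := hP
          rw [hk, pow_succ, pow_mul, sq, ha2, one_pow, one_mul]
  refine ⟨(MonoidHom.transfer φ).ker, inferInstance, ?_, fun h => ha1 (key ▸ MonoidHom.mem_ker.1 h),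
    fun u hu hu' => hin u hu hu'⟩
  rw [index_ker]
  have h2 : Nat.card (MonoidHom.transfer φ).range ∣ 2 := by
    have h := (MonoidHom.transfer φ).range.card_subgroup_dvd_card
    rwa [show Nat.card (Multiplicative (ZMod 2)) = 2 by simp] at h
  refine ((Nat.dvd_prime Nat.prime_two).1 h2).resolve_left fun h => ha1 ?_
  have h3 : a ∈ (MonoidHom.transfer φ).range := ⟨u₀, key⟩
  rw [card_eq_one.1 h, mem_bot] at h3
  exact h3

end Transfer

variable {G : Type*} [Group G] {t s c y w : G}

/-- The centralizer of a pair. -/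
abbrev pairCen (c y : G) : Subgroup G := centralizer ({c} : Set G) ⊓ centralizer ({y} : Set G)

theorem mem_pairCen {c y x : G} : x ∈ pairCen c y ↔ Commute x c ∧ Commute x y :=
  and_congr mem_centralizer_singleton_iff mem_centralizer_singleton_iff

namespace Loc

variable (L : Loc t s c y w)
include L

theorem cc : c * c = 1 := by have := pow_orderOf_eq_one c; rwa [L.ord_c, sq] at this

theorem yy : y * y = 1 := by have := pow_orderOf_eq_one y; rwa [L.ord_y, sq] at this

theorem ww : w * w = 1 := by have := pow_orderOf_eq_one w; rwa [L.ord_w, sq] at this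

/-- The four group of the pair. -/
def four : Subgroup G where
  carrier := {1, c, y, c * y}
  one_mem' := Or.inl rfl
  mul_mem' := by
    have h := L.comm_cy.eq
    have hcc := L.cc
    have hyy := L.yy
    have e1 : c * (c * y) = y := by rw [← mul_assoc, hcc, one_mul]
    have e2 : c * y * c = y := by rw [h, mul_assoc, hcc, mul_one]
    have e3 : y * (c * y) = c := by rw [h, ← mul_assoc, hyy, one_mul]
    have e4 : c * y * y = c := by rw [mul_assoc, hyy, mul_one]
    have e5 : c * y * (c * y) = 1 := by rw [← mul_assoc, e2, hyy]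
    rintro a b (rfl | rfl | rfl | rfl) (rfl | rfl | rfl | rfl) <;>
      (try simp only [one_mul, mul_one, hcc, hyy, e1, e2, e3, e4, e5, h.symm]) <;>
      first
        | exact Or.inl rfl
        | exact Or.inr (Or.inl rfl)
        | exact Or.inr (Or.inr (Or.inl rfl))
        | exact Or.inr (Or.inr (Or.inr rfl))
  inv_mem' := by
    rintro a (rfl | rfl | rfl | rfl)
    · exact Or.inl inv_one
    · exact Or.inr (Or.inl (inv_eq_of_mul_eq_one_right L.cc))
    · exact Or.inr (Or.inr (Or.inl (inv_eq_of_mul_eq_one_right L.yy)))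
    · refine Or.inr (Or.inr (Or.inr ?_))
      rw [mul_inv_rev, inv_eq_of_mul_eq_one_right L.cc, inv_eq_of_mul_eq_one_right L.yy, ← L.comm_cy.eq]; rfl

theorem mem_four {x : G} : x ∈ L.four ↔ x = 1 ∨ x = c ∨ x = y ∨ x = c * y := Iff.rfl

theorem four_central {v g : G} (hv : v ∈ L.four) (hg : g ∈ pairCen c y) : Commute g v := by
  obtain ⟨h1, h2⟩ := mem_pairCen.1 hg
  rcases L.mem_four.1 hv with rfl | rfl | rfl | rfl
  exacts [Commute.one_right _, h1, h2, h1.mul_right h2]

theorem four_not_conj {v : G} (hv : v ∈ L.four) : ¬ IsConj t v := by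
  rcases L.mem_four.1 hv with rfl | rfl | rfl | rfl
  · exact fun h => L.t_ne (isConj_one_left.1 h)
  exacts [L.not_conj_of_c ⟨1, one_mem _, by group⟩, L.not_conj_of_c L.y_c, L.not_conj_of_c L.cy_c]

theorem coset_w {v : G} (hv : v ∈ L.four) : ConjIn t c (v * w) := by
  obtain ⟨h1, h2, h3, h4⟩ := L.w_coset
  rcases L.mem_four.1 hv with rfl | rfl | rfl | rfl
  exacts [(one_mul w).symm ▸ h1, h2, h3, h4]

/-- **The centralizer of the pair lies in `G0`.** -/
theorem pairCen_le [Finite G] {G0 : Subgroup G} (hle : centralizer ({t} : Set G) ≤ G0) (hts : IsConj t s)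
    (hD : ∀ d ∈ G0, IsConj t d → ∃ a ∈ G0, a * t * a⁻¹ = d)
    (h5 : ∃ x ∈ G0, orderOf x = 5 ∧ Commute x c ∧ Commute x y) : pairCen c y ≤ G0 := by
  classical
  haveI : Fact (Nat.Prime 2) := ⟨Nat.prime_two⟩
  obtain ⟨A, hA, hA16, hcA, hyA, htA, hwA, hAab, hA2, hAu, ⟨b, hb, hbt⟩⟩ := L.half
  set Y := pairCen c y with hY
  set T := centralizer ({t} : Set G) ⊓ centralizer ({c} : Set G) ⊓ centralizer ({y} : Set G) with hTdef
  have hT32 : Nat.card T = 32 := L.card_pair
  have hTY : T ≤ Y := fun x hx => ⟨hx.1.2, hx.2⟩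
  have hTG : T ≤ G0 := fun x hx => hle hx.1.1
  have hwT : w ∈ T := ⟨⟨mem_cen.2 L.comm_w.symm, mem_centralizer_singleton_iff.2 L.comm_wc⟩,
    mem_centralizer_singleton_iff.2 L.comm_wy⟩
  have hVA : L.four ≤ A := by
    intro v hv
    rcases L.mem_four.1 hv with rfl | rfl | rfl | rfl
    exacts [one_mem A, hcA, hyA, mul_mem hcA hyA]
  have hV4 : Nat.card L.four = 4 := by
    have hc1 : c ≠ 1 := fun h => by have := L.ord_c; rw [h, orderOf_one] at this; omega
    have hy1 : y ≠ 1 := fun h => by have := L.ord_y; rw [h, orderOf_one] at this; omega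
    have hcy : c ≠ y := fun h => by
      have h2 := L.cy_c.isConj
      rw [← h, L.cc, isConj_one_left] at h2
      exact hc1 h2
    have h1 : c ≠ c * y := fun h => hy1 (mul_eq_left.1 h.symm)
    have h2 : y ≠ c * y := fun h => hc1 (mul_eq_right.1 h.symm)
    have h3 : c * y ≠ 1 := fun h => hcy ((mul_eq_one_iff_eq_inv.1 h).trans (inv_eq_of_mul_eq_one_right L.yy))
    show Nat.card (({1, c, y, c * y} : Set G)) = 4
    rw [Nat.card_coe_set_eq, Set.ncard_insert_of_notMem (by simp [hc1.symm, hy1.symm, h3.symm]),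
      Set.ncard_insert_of_notMem (by simp [hcy, h1]), Set.ncard_pair h2]
  -- conjugates of `t` in a coset of the pair
  have huniq : ∀ a ∈ A, a ∉ L.four → ∃! d : G, (∃ v ∈ L.four, d = v * a) ∧ IsConj t d := by
    intro a ha hav
    obtain ⟨d, ⟨hd1, hd2⟩, hd3⟩ := hAu a ha fun h => hav h
    have hset : ∀ e : G, (∃ v ∈ L.four, e = v * a) ↔ e ∈ ({a, c * a, y * a, c * y * a} : Set G) := by
      intro e
      constructor
      · rintro ⟨v, hv, rfl⟩
        rcases L.mem_four.1 hv with rfl | rfl | rfl | rfl <;> simp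
      · rintro (rfl | rfl | rfl | rfl)
        exacts [⟨1, one_mem _, (one_mul _).symm⟩, ⟨c, Or.inr (Or.inl rfl), rfl⟩,
          ⟨y, Or.inr (Or.inr (Or.inl rfl)), rfl⟩, ⟨c * y, Or.inr (Or.inr (Or.inr rfl)), rfl⟩]
    refine ⟨d, ⟨(hset d).2 hd1, ?_⟩, ?_⟩
    · rcases hd2 with rfl | h
      exacts [IsConj.refl _, hts.trans h.isConj]
    · rintro e ⟨he1, he2⟩
      refine hd3 e ⟨(hset e).1 he1, ?_⟩
      obtain ⟨v, hv, rfl⟩ := he1
      have hva : v * a ∈ A := mul_mem (hVA hv) ha
      rcases L.classes _ (hA hva).1.1 (by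
        rw [orderOf_eq_prime_iff]
        refine ⟨by rw [sq]; exact hA2 _ hva, fun h => hav ?_⟩
        rw [mul_eq_one_iff_inv_eq] at h
        exact h ▸ inv_mem hv) with h | h | h
      exacts [Or.inl h, Or.inr h, absurd he2 (L.not_conj_of_c h)]
  have htV : t ∉ L.four := fun h => L.four_not_conj h (IsConj.refl _)
  have hnot : ∀ v ∈ L.four, v * t ≠ 1 := fun v hv h => htV (by
    have := inv_mem hv
    rwa [inv_eq_of_mul_eq_one_right h] at this)
  -- the part of `A` centralizing `w`
  have hCw : ∀ a ∈ A, Commute a w → ∃ v ∈ L.four, a = v ∨ a = v * t := by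
    set E := A ⊓ centralizer ({w} : Set G) with hE
    let f : L.four × Fin 2 → E := fun p => ⟨(p.1 : G) * if p.2 = 0 then 1 else t, by
      refine ⟨mul_mem (hVA p.1.2) ?_, mem_centralizer_singleton_iff.2 (Commute.mul_left ?_ ?_).eq⟩
      · split_ifs; exacts [one_mem A, htA]
      · exact (L.four_central p.1.2 (hTY hwT)).symm
      · split_ifs; exacts [Commute.one_left _, L.comm_w]⟩
    have hf : Function.Injective f := by
      rintro ⟨⟨v, hv⟩, i⟩ ⟨⟨v', hv'⟩, i'⟩ he
      have he' : v * (if i = 0 then (1 : G) else t) = v' * if i' = 0 then 1 else t := congrArg Subtype.val he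
      fin_cases i <;> fin_cases i' <;>
        simp only [Fin.zero_eta, Fin.mk_one, ↓reduceIte, one_ne_zero, mul_one] at he' ⊢
      · subst he'; rfl
      · refine absurd ?_ htV
        have := mul_mem (inv_mem hv') hv
        rwa [he', inv_mul_cancel_left] at this
      · refine absurd ?_ htV
        have := mul_mem (inv_mem hv) hv'
        rwa [← he', inv_mul_cancel_left] at this
      · obtain rfl := mul_right_cancel he'; rfl
    have hE8 : Nat.card E ≤ 8 := by
      obtain ⟨k, hk⟩ : Nat.card E ∣ 16 := hA16 ▸ card_dvd_of_le (inf_le_left : E ≤ A)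
      by_contra hlt
      have hk1 : k = 1 := by
        by_contra hk1
        have hk0 : k ≠ 0 := by rintro rfl; simp at hk
        have : Nat.card E * 2 ≤ Nat.card E * k := Nat.mul_le_mul_left _ (by omega)
        omega
      have hEA : E = A := eq_of_le_of_card_ge inf_le_left (by rw [hA16, hk, hk1, mul_one])
      have hbw : Commute b w := mem_centralizer_singleton_iff.1 (hEA.ge hb).2
      rw [← hbw.eq, mul_inv_cancel_right, mul_inv_cancel] at hbt
      rcases hbt with h | h | h | h
      exacts [L.t_ne h.symm, hnot c (by simp [mem_four]) h.symm, hnot y (by simp [mem_four]) h.symm,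
        hnot _ (by simp [mem_four]) h.symm]
    have hsurj : Function.Surjective f := by
      refine ((Nat.bijective_iff_injective_and_card f).2 ⟨hf, le_antisymm (Nat.card_le_card_of_injective f hf) ?_⟩).2
      rw [Nat.card_prod, hV4, Nat.card_fin]; exact hE8
    intro a ha haw
    obtain ⟨⟨⟨v, hv⟩, i⟩, he⟩ := hsurj ⟨a, ha, mem_centralizer_singleton_iff.2 haw.eq⟩
    have he' : v * (if i = 0 then (1 : G) else t) = a := congrArg Subtype.val he
    refine ⟨v, hv, ?_⟩
    split_ifs at he' with hi
    · exact Or.inl (he'.symm.trans (mul_one v))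
    · exact Or.inr he'.symm
  -- `T = A ∪ A w`
  have hTA : ∀ u ∈ T, u ∈ A ∨ u * w ∈ A := by
    intro u hu
    have hidx : (A.subgroupOf T).index = 2 := by
      have := (A.subgroupOf T).card_mul_index
      rw [Nat.card_congr (subgroupOfEquivOfLe hA).toEquiv, hA16, hT32] at this
      omega
    have := mul_mem_iff_of_index_two hidx (a := ⟨u, hu⟩) (b := ⟨w, hwT⟩)
    simp only [mem_subgroupOf, Subgroup.coe_mul] at this
    by_cases hua : u ∈ A
    · exact Or.inl hua
    · exact Or.inr (this.2 (iff_of_false hua hwA))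
  -- the two-groups of `Y` over `T`
  have hTmax : ∀ P : Subgroup G, IsPGroup 2 P → T ≤ P → P ≤ Y → P = T := by
    intro P hP hTP hPY
    by_contra hne
    obtain ⟨Z, hlt, hZP, hZn⟩ :=
      CfsgLib.Bender.GSide.exists_between (lt_of_le_of_ne hTP (Ne.symm hne)) hP
    obtain ⟨g, hg, hgT⟩ := SetLike.exists_of_lt hlt
    refine hgT ⟨⟨?_, (hPY (hZP hg)).1⟩, (hPY (hZP hg)).2⟩
    have hn := hZn hg
    have htT : t ∈ T := hA htA
    set d := g * t * g⁻¹ with hd
    have hdT : d ∈ T := (mem_normalizer_iff.1 hn t).1 htT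
    have hdD : IsConj t d := isConj_iff.2 ⟨g, rfl⟩
    have hdc : ∀ u ∈ T, Commute d u := fun u hu => by
      have hu' : g⁻¹ * u * g ∈ T := (mem_normalizer_iff.1 hn _).2 (by
        rwa [show g * (g⁻¹ * u * g) * g⁻¹ = u by group])
      have := commute_conj g ((mem_cen.1 hu'.1.1).symm)
      rwa [show g * (g⁻¹ * u * g) * g⁻¹ = u by group] at this
    have hdA : d ∈ A := by
      refine (hTA d hdT).resolve_right fun h => ?_
      have h1 : Commute b (d * w) := hAab b hb _ h
      have h2 : Commute b d := (hdc b (hA hb)).symm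
      have h3 : Commute b w := by
        have := (h2.inv_right).mul_right h1
        rwa [inv_mul_cancel_left] at this
      rw [← h3.eq, mul_inv_cancel_right, mul_inv_cancel] at hbt
      rcases hbt with e | e | e | e
      exacts [L.t_ne e.symm, hnot c (by simp [mem_four]) e.symm, hnot y (by simp [mem_four]) e.symm,
        hnot _ (by simp [mem_four]) e.symm]
    obtain ⟨v, hv, e | e⟩ := hCw d hdA (hdc w hwT)
    · exact absurd (e ▸ hdD) (L.four_not_conj hv)
    · obtain ⟨e0, -, he0⟩ := huniq t htA htV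
      have h1 := he0 d ⟨⟨v, hv, e⟩, hdD⟩
      have h2 := he0 t ⟨⟨1, one_mem _, (one_mul t).symm⟩, IsConj.refl _⟩
      exact mem_centralizer_singleton_iff.2
        (mul_inv_eq_iff_eq_mul.1 (show g * t * g⁻¹ = t from (h1.trans h2.symm)))
  -- involutions of `T` outside `A`
  have hout : ∀ u ∈ T, u * u = 1 → u ∉ A → ∃ g ∈ T, ∃ v ∈ L.four, g * (v * w) * g⁻¹ = u := by
    intro u hu hu2 huA
    have ha := (hTA u hu).resolve_left huA
    set a := u * w with hadef
    have hua : u = a * w := by rw [hadef, mul_assoc, L.ww, mul_one]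
    have haw : Commute a w := by
      have h1 : a * w * (a * w) = 1 := by rw [← hua, hu2]
      calc a * w = (a * w)⁻¹ := (inv_eq_of_mul_eq_one_right h1).symm
        _ = w * a := by
          rw [mul_inv_rev, inv_eq_of_mul_eq_one_right L.ww, inv_eq_of_mul_eq_one_right (hA2 a ha)]
    obtain ⟨v, hv, e | e⟩ := hCw a ha haw
    · exact ⟨1, one_mem _, v, hv, by rw [hua, e]; group⟩
    -- `b w b⁻¹` is `w` times an element of `t V`
    obtain ⟨v', hv', hbv⟩ : ∃ v' ∈ L.four, w * b * w⁻¹ * b⁻¹ = v' * t := by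
      rcases hbt with h | h | h | h
      exacts [⟨1, one_mem _, h.trans (one_mul t).symm⟩, ⟨c, by simp [mem_four], h⟩,
        ⟨y, by simp [mem_four], h⟩, ⟨c * y, by simp [mem_four], h⟩]
    refine ⟨b, hA hb, v * v'⁻¹, mul_mem hv (inv_mem hv'), ?_⟩
    have hb' : b⁻¹ = b := inv_eq_of_mul_eq_one_right (hA2 b hb)
    have hw' : w⁻¹ = w := inv_eq_of_mul_eq_one_right L.ww
    have hvb : Commute (v * v'⁻¹) b := (L.four_central (mul_mem hv (inv_mem hv')) (hTY (hA hb))).symm
    have hconj : b * w * b⁻¹ = v' * t * w := by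
      calc b * w * b⁻¹ = (w * b * w⁻¹ * b⁻¹)⁻¹ * w := by group
        _ = (v' * t)⁻¹ * w := by rw [hbv]
        _ = v' * t * w := by rw [inv_eq_of_mul_eq_one_right (hA2 _ (mul_mem (hVA hv') htA))]
    calc b * (v * v'⁻¹ * w) * b⁻¹ = v * v'⁻¹ * (b * w * b⁻¹) := by
          rw [← mul_assoc b, ← hvb.eq]; group
      _ = v * t * w := by rw [hconj]; group
      _ = u := by rw [hua, e]
  have hnoA : ∀ g ∈ Y, ∀ v ∈ L.four, g * (v * w) * g⁻¹ ∉ A := by
    intro g hg v hv hm
    by_cases hmV : g * (v * w) * g⁻¹ ∈ L.four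
    · have h1 : v * w = g * (v * w) * g⁻¹ := by
        have := L.four_central hmV (inv_mem hg)
        calc v * w = g⁻¹ * (g * (v * w) * g⁻¹) * g := by group
          _ = _ := by rw [this.eq]; group
      exact hwA (by
        have := mul_mem (inv_mem (hVA hv)) (hVA (h1 ▸ hmV : v * w ∈ L.four))
        rwa [inv_mul_cancel_left] at this)
    obtain ⟨d, ⟨⟨v', hv', rfl⟩, hdD⟩, -⟩ := huniq _ hm hmV
    refine L.not_conj_of_c (L.coset_w (mul_mem hv' hv)) (hdD.trans (IsConj.symm (isConj_iff.2 ⟨g, ?_⟩)))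
    rw [show g * (v' * v * w) * g⁻¹ = g * v' * g⁻¹ * (g * (v * w) * g⁻¹) by group,
      (L.four_central hv' hg).eq, mul_inv_cancel_right]
  -- the subgroup of index two
  have hYodd : Odd (T.subgroupOf Y).index := by
    rw [← Nat.not_even_iff_odd, even_iff_two_dvd]
    intro h2
    have h64 : 2 ^ 6 ∣ Nat.card Y := by
      rw [← (T.subgroupOf Y).card_mul_index, Nat.card_congr (subgroupOfEquivOfLe hTY).toEquiv, hT32]
      exact Nat.mul_dvd_mul_left 32 h2
    obtain ⟨Q, hQ, hTQ⟩ := Sylow.exists_subgroup_card_pow_succ (p := 2) (n := 5) h64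
      (H := T.subgroupOf Y) (by rw [Nat.card_congr (subgroupOfEquivOfLe hTY).toEquiv, hT32]; rfl)
    have := hTmax (Q.map Y.subtype) ((IsPGroup.of_card (n := 6) hQ).map _)
      (fun x hx => ⟨⟨x, hTY hx⟩, hTQ hx, rfl⟩) (map_subtype_le _)
    have h := congrArg (fun K : Subgroup G => Nat.card K) this
    simp only [card_map_of_injective Y.subtype_injective, hQ, hT32] at h
    norm_num at h
  obtain ⟨M, hMn, hM2, hwM, hMin⟩ := exists_transfer_kernel (T.subgroupOf Y) (A.subgroupOf Y) hYodd
    (by
      have := (A.subgroupOf T).card_mul_index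
      rw [Nat.card_congr (subgroupOfEquivOfLe hA).toEquiv, hA16, hT32] at this
      rw [relIndex_subgroupOf hTY]
      show (A.subgroupOf T).index = 2
      omega)
    (u₀ := ⟨w, hTY hwT⟩) (Subtype.ext L.ww) (fun g hg => hnoA g g.2 1 (one_mem _) (by
      rw [one_mul]; exact hg))
  set W := M.map Y.subtype with hW
  have hWY : W ≤ Y := map_subtype_le _
  have hAW : A ≤ W := fun a ha => ⟨⟨a, hTY (hA ha)⟩, hMin _ (Subtype.ext (hA2 a ha)) fun g hg => by
    by_contra hgA
    obtain ⟨g', hg', v, hv, e⟩ := hout _ hg (by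
      show (g : G) * a * (g : G)⁻¹ * ((g : G) * a * (g : G)⁻¹) = 1
      rw [show (g : G) * a * (g : G)⁻¹ * ((g : G) * a * (g : G)⁻¹) = (g : G) * (a * a) * (g : G)⁻¹ by group,
        hA2 a ha]; group) hgA
    refine hnoA ((g : G)⁻¹ * g') (mul_mem (inv_mem g.2) (hTY hg')) v hv ?_
    rw [show (g : G)⁻¹ * g' * (v * w) * ((g : G)⁻¹ * g')⁻¹ = (g : G)⁻¹ * (g' * (v * w) * g'⁻¹) * g by group, e]
    show (g : G)⁻¹ * ((g : G) * a * (g : G)⁻¹) * g ∈ A
    rwa [show (g : G)⁻¹ * ((g : G) * a * (g : G)⁻¹) * g = a by group], rfl⟩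
  have h32 : ∀ K : Subgroup G, K ≤ W → ¬ 32 ∣ Nat.card K := by
    intro K hK h
    have hM32 : 32 ∣ Nat.card M := by
      have := h.trans (card_dvd_of_le hK)
      rwa [card_map_of_injective Y.subtype_injective] at this
    have h1 := M.card_mul_index
    rw [hM2, ← (T.subgroupOf Y).card_mul_index, Nat.card_congr (subgroupOfEquivOfLe hTY).toEquiv, hT32] at h1
    obtain ⟨j, hj⟩ := hM32
    obtain ⟨i, hi⟩ := hYodd
    rw [hj, hi] at h1
    omega
  -- centralizers of conjugates of `t`
  have hcen : ∀ d ∈ A, IsConj t d → Nat.card (centralizer ({d} : Set G) ⊓ Y : Subgroup G) = 32 := by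
    intro d hd hdD
    obtain ⟨a, haG, rfl⟩ := hD d (hTG (hA hd)) hdD
    have hcv : ∀ v, Commute (a * t * a⁻¹) v → a⁻¹ * v * a ∈ centralizer ({t} : Set G) := fun v h => by
      have := commute_conj a⁻¹ h
      rw [show a⁻¹ * (a * t * a⁻¹) * a⁻¹⁻¹ = t by group, inv_inv] at this
      exact mem_cen.2 this.symm
    have hdY : a * t * a⁻¹ ∈ Y := hTY (hA hd)
    have htype : ∀ v ∈ L.four, v ≠ 1 → ConjIn t c (a⁻¹ * v * a) := fun v hv hv1 =>
      L.c_of_not_conj hts (hcv v (L.four_central hv hdY)) (by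
        rw [show a⁻¹ * v * a = a⁻¹ * v * a⁻¹⁻¹ by group, orderOf_conj, orderOf_eq_prime_iff]
        exact ⟨by rw [sq]; exact hA2 _ (hVA hv), hv1⟩)
        fun h => L.four_not_conj hv (h.trans (isConj_iff.2 ⟨a, by group⟩))
    have hne1 : ∀ {v : G}, ConjIn t c v → v ≠ 1 := fun h e => by
      have h1 := L.ord_c
      rw [show c = 1 from isConj_one_left.1 (e ▸ h.isConj), orderOf_one] at h1
      omega
    obtain ⟨h, hh, h1, h2⟩ := L.pairs (a⁻¹ * c * a) (hcv c (L.four_central (by simp [mem_four]) hdY))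
      (a⁻¹ * y * a) (hcv y (L.four_central (by simp [mem_four]) hdY))
      (by
        have := commute_conj a⁻¹ L.comm_cy
        rwa [inv_inv] at this)
      (htype c (by simp [mem_four]) (hne1 ⟨1, one_mem _, by group⟩)) (htype y (by simp [mem_four]) (hne1 L.y_c))
      (by
        have := htype (c * y) (by simp [mem_four]) (hne1 L.cy_c)
        rwa [show a⁻¹ * (c * y) * a = a⁻¹ * c * a * (a⁻¹ * y * a) by group] at this)
    have key : ∀ g : G, g ∈ T ↔ a * h * g * (a * h)⁻¹ ∈ centralizer ({a * t * a⁻¹} : Set G) ⊓ Y := by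
      intro g
      have ht' : a * h * t * (a * h)⁻¹ = a * t * a⁻¹ := by
        rw [show a * h * t * (a * h)⁻¹ = a * (h * t * h⁻¹) * a⁻¹ by group, (mem_cen.1 hh).eq,
          mul_inv_cancel_right]
      have hc' : a * h * c * (a * h)⁻¹ = c := by
        rw [show a * h * c * (a * h)⁻¹ = a * (h * c * h⁻¹) * a⁻¹ by group, h1]; group
      have hy' : a * h * y * (a * h)⁻¹ = y ∨ a * h * y * (a * h)⁻¹ = c * y := by
        rw [show a * h * y * (a * h)⁻¹ = a * (h * y * h⁻¹) * a⁻¹ by group]
        rcases h2 with e | e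
        · left; rw [e]; group
        · right; rw [e]; group
      simp only [hTdef, hY, mem_inf, mem_centralizer_singleton_iff]
      have cj : ∀ v v' : G, a * h * v * (a * h)⁻¹ = v' →
          (g * v = v * g ↔ a * h * g * (a * h)⁻¹ * v' = v' * (a * h * g * (a * h)⁻¹)) := by
        rintro v _ rfl
        constructor
        · intro e
          rw [show a * h * g * (a * h)⁻¹ * (a * h * v * (a * h)⁻¹) = a * h * (g * v) * (a * h)⁻¹ by group, e]
          group
        · intro e
          rw [show a * h * g * (a * h)⁻¹ * (a * h * v * (a * h)⁻¹) = a * h * (g * v) * (a * h)⁻¹ by group,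
            show a * h * v * (a * h)⁻¹ * (a * h * g * (a * h)⁻¹) = a * h * (v * g) * (a * h)⁻¹ by group] at e
          exact mul_left_cancel (mul_right_cancel e)
      rcases hy' with e | e
      · rw [cj t _ ht', cj c _ hc', cj y _ e]; tauto
      · rw [cj t _ ht', cj c _ hc', cj y _ e]
        set g' := a * h * g * (a * h)⁻¹
        constructor
        · rintro ⟨⟨e1, e2⟩, e3⟩
          refine ⟨e1, e2, ?_⟩
          have := (show Commute g' c from e2).inv_right.mul_right (show Commute g' (c * y) from e3)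
          rwa [inv_mul_cancel_left] at this
        · rintro ⟨e1, e2, e3⟩
          exact ⟨⟨e1, e2⟩, ((show Commute g' c from e2).mul_right (show Commute g' y from e3)).eq⟩
    have hmap : T.map (MulAut.conj (a * h)).toMonoidHom = centralizer ({a * t * a⁻¹} : Set G) ⊓ Y := by
      ext g
      constructor
      · rintro ⟨g, hg, rfl⟩; exact (key g).1 hg
      · intro hg
        refine ⟨(a * h)⁻¹ * g * (a * h), (key _).2 ?_, by simp [mul_assoc]⟩
        rwa [show a * h * ((a * h)⁻¹ * g * (a * h)) * (a * h)⁻¹ = g by group]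
    rw [← hmap, card_map_of_injective (MulAut.conj (a * h)).injective, hT32]
  -- the possible orders
  have hcases : ∀ K : Subgroup G, A ≤ K → K ≤ W →
      Nat.card K = 16 ∨ Nat.card K = 48 ∨ Nat.card K = 240 := by
    intro K hAK hKW
    haveI : (L.four.subgroupOf K).Normal := ⟨fun v hv g => by
      rw [mem_subgroupOf] at hv ⊢
      rw [Subgroup.coe_mul, Subgroup.coe_mul, InvMemClass.coe_inv,
        (L.four_central hv (hWY (hKW g.2))).eq, mul_inv_cancel_right]
      exact hv⟩
    set V := L.four.subgroupOf K with hV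
    set π := QuotientGroup.mk' V with hπ
    have hker : ∀ x : K, π x = 1 ↔ (x : G) ∈ L.four := fun x => (QuotientGroup.eq_one_iff x).trans mem_subgroupOf
    have hVc : Nat.card V = 4 := (Nat.card_congr (subgroupOfEquivOfLe (hVA.trans hAK)).toEquiv).trans hV4
    have hQcard : Nat.card K = 4 * Nat.card (K ⧸ V) := by
      rw [← index_eq_card, ← V.card_mul_index, hVc]
    have hcA' : ∀ a : K, (a : G) ∈ A → π a ≠ 1 →
        Nat.card (centralizer ({π a} : Set (K ⧸ V))) = 4 ∧
          ∀ k ∈ centralizer ({π a} : Set (K ⧸ V)), k ^ 2 = 1 := by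
      intro a ha hne
      have haV : (a : G) ∉ L.four := fun h => hne ((hker a).2 h)
      obtain ⟨d, ⟨⟨v, hv, hdv⟩, hdD⟩, hduniq⟩ := huniq _ ha haV
      have hdA : d ∈ A := hdv ▸ mul_mem (hVA hv) ha
      have hCd : centralizer ({d} : Set G) ⊓ K = A := by
        refine (eq_of_le_of_card_ge (le_inf (fun z hz => mem_centralizer_singleton_iff.2
          (hAab z hz d hdA).eq) hAK) ?_).symm
        rw [hA16]
        have h1 : Nat.card (centralizer ({d} : Set G) ⊓ K : Subgroup G) ∣ 2 ^ 5 := by
          rw [show (2 : ℕ) ^ 5 = 32 from rfl, ← hcen d hdA hdD]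
          exact card_dvd_of_le (inf_le_inf_left _ (hKW.trans hWY))
        obtain ⟨j, hj, hjc⟩ := (Nat.dvd_prime_pow Nat.prime_two).1 h1
        rw [hjc]
        by_contra hgt
        have : 5 ≤ j := by
          by_contra hj5
          exact hgt ((Nat.pow_le_pow_right two_pos (by omega : j ≤ 4)).trans (by norm_num))
        refine h32 (centralizer ({d} : Set G) ⊓ K) (inf_le_right.trans hKW) ?_
        rw [hjc, show j = 5 by omega]; norm_num
      have hC : centralizer ({π a} : Set (K ⧸ V)) = (A.subgroupOf K).map π := by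
        ext k
        obtain ⟨g, rfl⟩ : ∃ g, π g = k := QuotientGroup.mk'_surjective V k
        constructor
        · intro hg
          rw [mem_centralizer_singleton_iff] at hg
          have hv' : ((g * a * g⁻¹ * a⁻¹ : K) : G) ∈ L.four :=
            (hker _).1 (by rw [map_mul, map_inv, map_mul, map_inv, map_mul, hg]; group)
          simp only [Subgroup.coe_mul, InvMemClass.coe_inv] at hv'
          refine ⟨g, ?_, rfl⟩
          show (g : G) ∈ A
          rw [← hCd]
          refine ⟨mem_centralizer_singleton_iff.2 (mul_inv_eq_iff_eq_mul.1 ?_), g.2⟩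
          refine hduniq _ ⟨⟨v * ((g : G) * a * (g : G)⁻¹ * (a : G)⁻¹), mul_mem hv hv', ?_⟩,
            hdD.trans (isConj_iff.2 ⟨g, rfl⟩)⟩
          rw [hdv, show (g : G) * (v * a) * (g : G)⁻¹ = (g : G) * v * (g : G)⁻¹ * ((g : G) * a * (g : G)⁻¹) by group,
            (L.four_central hv (hWY (hKW g.2))).eq, mul_inv_cancel_right]
          group
        · rintro ⟨g', hg', e⟩
          rw [mem_centralizer_singleton_iff, ← e, ← map_mul, ← map_mul]
          exact congrArg π (Subtype.ext (hAab g' hg' a ha).eq)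
      refine ⟨?_, fun k hk => ?_⟩
      · rw [hC]
        have h1 := (π.subgroupMap (A.subgroupOf K)).ker.card_mul_index
        rw [Subgroup.index_ker, MonoidHom.range_eq_top.2 (π.subgroupMap_surjective _), card_top,
          Nat.card_congr (subgroupOfEquivOfLe hAK).toEquiv, hA16] at h1
        have hk4 : Nat.card (π.subgroupMap (A.subgroupOf K)).ker = 4 := by
          refine (Nat.card_congr ?_).trans hV4
          exact
            { toFun := fun z => ⟨z.1.1, (hker _).1 (congrArg Subtype.val z.2)⟩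
              invFun := fun z => ⟨⟨⟨z.1, hAK (hVA z.2)⟩, hVA z.2⟩, Subtype.ext ((hker _).2 z.2)⟩
              left_inv := fun z => rfl
              right_inv := fun z => rfl }
        rw [hk4] at h1
        omega
      · rw [hC] at hk
        obtain ⟨g', hg', rfl⟩ := hk
        rw [← map_pow]
        exact (hker _).2 (by rw [SubmonoidClass.coe_pow, sq, show (g' : G) * g' = 1 from hA2 _ hg']; exact one_mem _)
    -- every involution of the quotient comes from `A`
    have hAsyl : ∀ P : Sylow 2 K, A.subgroupOf K ≤ P → (P : Subgroup K) = A.subgroupOf K := by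
      intro P hP
      refine (eq_of_le_of_card_ge hP ?_).symm
      rw [Nat.card_congr (subgroupOfEquivOfLe hAK).toEquiv, hA16]
      obtain ⟨j, hj⟩ := IsPGroup.iff_card.1 P.2
      rw [hj]
      by_contra hgt
      refine h32 K hKW ((?_ : 32 ∣ 2 ^ j).trans (hj ▸ (P : Subgroup K).card_subgroup_dvd_card))
      have : 5 ≤ j := by
        by_contra hj5
        exact hgt ((Nat.pow_le_pow_right two_pos (by omega : j ≤ 4)).trans (by norm_num))
      exact pow_dvd_pow 2 this
    have hinvA : ∀ u : K ⧸ V, orderOf u = 2 → ∃ (a : K) (r : K ⧸ V), (a : G) ∈ A ∧ π a ≠ 1 ∧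
        u = r * π a * r⁻¹ := by
      intro u hu
      obtain ⟨x, rfl⟩ : ∃ x, π x = u := QuotientGroup.mk'_surjective V u
      have hu2 : π x ^ 2 = 1 := by have := pow_orderOf_eq_one (π x); rwa [hu] at this
      have hx4 : x ^ (2 ^ 2) = 1 := Subtype.ext (by
        have hm : ((x ^ 2 : K) : G) ∈ L.four := (hker _).1 (by rw [map_pow]; exact hu2)
        show ((x : K) : G) ^ (2 ^ 2) = 1
        rw [SubmonoidClass.coe_pow] at hm
        rw [pow_two, pow_mul, pow_two (_ ^ 2)]
        exact hA2 _ (hVA hm))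
      obtain ⟨Q, hQ⟩ := (show IsPGroup 2 (zpowers x) from fun z => by
        obtain ⟨z, hz⟩ := z
        obtain ⟨k, rfl⟩ := mem_zpowers_iff.1 hz
        exact ⟨2, Subtype.ext (show (x ^ k) ^ (2 ^ 2) = 1 by
          rw [← zpow_natCast, ← zpow_mul, mul_comm, zpow_mul, zpow_natCast, hx4, one_zpow])⟩).exists_le_sylow
      obtain ⟨P, hP⟩ := ((IsPGroup.of_card (n := 4) hA16 : IsPGroup 2 A).comap_subtype (K := K)).exists_le_sylow
      obtain ⟨g, hg⟩ := MulAction.exists_smul_eq K Q P
      refine ⟨g * x * g⁻¹, (π g)⁻¹, ?_, ?_, ?_⟩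
      · show g * x * g⁻¹ ∈ A.subgroupOf K
        rw [← hAsyl P hP, ← hg]
        exact ⟨x, hQ (mem_zpowers _), rfl⟩
      · intro e
        rw [map_mul, map_mul, map_inv, conj_eq_one_iff] at e
        rw [e, orderOf_one] at hu
        omega
      · rw [map_mul, map_mul, map_inv]; group
    have hC : ∀ u : K ⧸ V, orderOf u = 2 → Nat.card (centralizer ({u} : Set (K ⧸ V))) = 4 ∧
        ∀ k ∈ centralizer ({u} : Set (K ⧸ V)), k ^ 2 = 1 := by
      intro u hu
      obtain ⟨a, r, ha, hne, rfl⟩ := hinvA u hu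
      obtain ⟨h4, he⟩ := hcA' a ha hne
      have heq : centralizer ({r * π a * r⁻¹} : Set (K ⧸ V)) =
          (centralizer ({π a} : Set (K ⧸ V))).map (MulAut.conj r).toMonoidHom := by
        ext k
        simp only [mem_map, mem_centralizer_singleton_iff]
        constructor
        · intro hk
          refine ⟨r⁻¹ * k * r, ?_, by simp [mul_assoc]⟩
          calc r⁻¹ * k * r * π a = r⁻¹ * (k * (r * π a * r⁻¹)) * r := by group
            _ = π a * (r⁻¹ * k * r) := by rw [hk]; group
        · rintro ⟨k, hk, rfl⟩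
          simp only [MulEquiv.coe_toMonoidHom, MulAut.conj_apply]
          calc r * k * r⁻¹ * (r * π a * r⁻¹) = r * (k * π a) * r⁻¹ := by group
            _ = _ := by rw [hk]; group
      refine ⟨by rw [heq, card_map_of_injective (MulAut.conj r).injective, h4], fun k hk => ?_⟩
      rw [heq] at hk
      obtain ⟨k, hk', rfl⟩ := hk
      rw [← map_pow, he k hk', map_one]
    have hx0 : orderOf (π ⟨t, hAK htA⟩) = 2 := by
      rw [orderOf_eq_prime_iff, ← map_pow]
      exact ⟨(hker _).2 (by rw [SubmonoidClass.coe_pow, sq, L.tt]; exact one_mem _),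
        fun e => htV ((hker _).1 e)⟩
    rcases card_of_four hx0 hC with e | e | e <;> rw [hQcard, e] <;> norm_num
  -- the element of order five
  obtain ⟨x, hxG, hx5, hxc, hxy⟩ := h5
  have hxY : x ∈ Y := mem_pairCen.2 ⟨hxc, hxy⟩
  have hxW : x ∈ W := by
    refine ⟨⟨x, hxY⟩, ?_, rfl⟩
    have hsq := Subgroup.pow_index_mem M (⟨x, hxY⟩ : Y)
    rw [hM2] at hsq
    have h := pow_mem hsq 3
    rwa [← pow_mul, show (⟨x, hxY⟩ : Y) ^ (2 * 3) = ⟨x, hxY⟩ from Subtype.ext (by
      show x ^ 6 = x
      rw [show 6 = orderOf x + 1 by omega, pow_succ, pow_orderOf_eq_one, one_mul])] at h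
  have hWG : W ≤ G0 := by
    have h0 := hcases (W ⊓ G0) (le_inf hAW fun a ha => hTG (hA ha)) inf_le_left
    have h5' : 5 ∣ Nat.card (W ⊓ G0 : Subgroup G) := by
      rw [← hx5]; exact Subgroup.orderOf_dvd_natCard _ ⟨hxW, hxG⟩
    have hW' := hcases W hAW le_rfl
    have hle' := card_le_of_le (inf_le_left : W ⊓ G0 ≤ W)
    have : W ⊓ G0 = W := eq_of_le_of_card_ge inf_le_left (by
      rcases h0 with e | e | e <;> rw [e] at h5' hle' ⊢ <;> rcases hW' with e' | e' | e' <;> omega)
    exact this ▸ inf_le_right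
  intro g hg
  by_cases hgM : (⟨g, hg⟩ : Y) ∈ M
  · exact hWG ⟨⟨g, hg⟩, hgM, rfl⟩
  · have h := (mul_mem_iff_of_index_two hM2 (a := (⟨g, hg⟩ : Y)) (b := ⟨w, hTY hwT⟩)).2
      (iff_of_false hgM hwM)
    have h2 : g * w ∈ G0 := hWG ⟨_, h, rfl⟩
    have := mul_mem h2 (hTG hwT)
    rwa [mul_assoc, L.ww, mul_one] at this

end Loc

end CfsgLib.Co3U
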